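import Mathlib

/-!
# Enlarging ideals with finite locally free quotient by one point

For an `A`-algebra `P`, an ideal `J` whose quotient is finite projective of rank `n`, a point
`χ : P → A` and a surjection `φ : J → A` which is semilinear over `χ`, the kernel of `φ` is an
ideal with quotient finite projective of rank `n + 1`.
-/

set_option autoImplicit false
set_option linter.style.haveILetI false

universe u v

open TensorProduct

namespace Groth.HilbConn

variable {A : Type u} [CommRing A] {P : Type u} [CommRing P] [Algebra A P]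

variable (A) in
/-- The quotient by `J` is finite projective of rank `n`. -/
def DegI (n : ℕ) (J : Ideal P) : Prop :=
  Module.Finite A (P ⧸ J) ∧ Module.Projective A (P ⧸ J) ∧
    ∀ p : PrimeSpectrum A, Module.rankAtStalk (R := A) (P ⧸ J) p = n

theorem eq_of_le {n : ℕ} {J₁ J₂ : Ideal P} (h : J₁ ≤ J₂) (h1 : DegI A n J₁) (h2 : DegI A n J₂) :
    J₁ = J₂ := by
  haveI := h1.1; haveI := h1.2.1; haveI := h2.1; haveI := h2.2.1
  let q : (P ⧸ J₁) →ₗ[A] (P ⧸ J₂) := (Ideal.Quotient.factorₐ A h).toLinearMap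
  have hq : Function.Surjective q := Ideal.Quotient.factor_surjective h
  obtain ⟨s, hs⟩ := Module.projective_lifting_property q LinearMap.id hq
  have hsq : ∀ b, q (s b) = b := fun b => LinearMap.congr_fun hs b
  let F : (LinearMap.ker q × (P ⧸ J₂)) →ₗ[A] (P ⧸ J₁) := (LinearMap.ker q).subtype.coprod s
  have hF : Function.Bijective F := by
    refine ⟨(injective_iff_map_eq_zero _).2 ?_, fun x => ?_⟩
    · rintro ⟨⟨z, hz⟩, b⟩ he
      have he' : z + s b = 0 := he
      have hb : b = 0 := by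
        have := congrArg q he'
        rwa [map_add, map_zero, hsq, LinearMap.mem_ker.1 hz, zero_add] at this
      subst hb
      rw [map_zero, add_zero] at he'
      exact Prod.ext (Subtype.ext he') rfl
    · exact ⟨(⟨x - s (q x), by rw [LinearMap.mem_ker, map_sub, hsq, sub_self]⟩, q x),
        sub_add_cancel x (s (q x))⟩
  let e := LinearEquiv.ofBijective F hF
  haveI : Module.Finite A (LinearMap.ker q) := by
    refine Module.Finite.of_surjective ((LinearMap.fst A _ (P ⧸ J₂)).comp e.symm.toLinearMap) ?_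
    exact fun z => ⟨e (z, 0), by simp⟩
  haveI : Module.Projective A (LinearMap.ker q) :=
    Module.Projective.of_split (M := P ⧸ J₁) (LinearMap.ker q).subtype
      ((LinearMap.fst A _ (P ⧸ J₂)).comp e.symm.toLinearMap) (LinearMap.ext fun z => by
        have : e.symm (z : P ⧸ J₁) = (z, 0) := e.injective (by simp [e, F])
        simp [this])
  have hr : Module.rankAtStalk (R := A) (LinearMap.ker q) = 0 := funext fun p => by
    have h3 := congrFun (Module.rankAtStalk_eq_of_equiv e) p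
    rw [Module.rankAtStalk_prod, Pi.add_apply, h1.2.2 p, h2.2.2 p] at h3
    simpa using h3
  haveI := Module.rankAtStalk_eq_zero_iff_subsingleton.1 hr
  refine le_antisymm h fun x hx => ?_
  have hx' : Ideal.Quotient.mk J₁ x ∈ LinearMap.ker q := by
    rw [LinearMap.mem_ker]
    exact Ideal.Quotient.eq_zero_iff_mem.2 hx
  exact Ideal.Quotient.eq_zero_iff_mem.1
    (congrArg Subtype.val (Subsingleton.elim (⟨_, hx'⟩ : LinearMap.ker q) 0))

section Ext

variable (J : Ideal P) (χ : P →ₐ[A] A) (φ : J →ₗ[A] A)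
  (hφ : ∀ (y : P) (x : J), φ (y • x) = χ y * φ x)

/-- The kernel of a semilinear functional on an ideal. -/
def ext : Ideal P where
  carrier := {x | ∃ h : x ∈ J, φ ⟨x, h⟩ = 0}
  zero_mem' := ⟨J.zero_mem, map_zero φ⟩
  add_mem' := by
    rintro a b ⟨ha, ha'⟩ ⟨hb, hb'⟩
    refine ⟨J.add_mem ha hb, ?_⟩
    rw [show (⟨a + b, J.add_mem ha hb⟩ : J) = ⟨a, ha⟩ + ⟨b, hb⟩ from rfl, map_add, ha', hb',
      add_zero]
  smul_mem' := by
    rintro c x ⟨hx, hx'⟩
    refine ⟨J.smul_mem c hx, ?_⟩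
    rw [show (⟨c • x, J.smul_mem c hx⟩ : J) = c • ⟨x, hx⟩ from rfl, hφ, hx', mul_zero]

variable {J χ φ}

theorem mem_ext {x : P} : x ∈ ext J χ φ hφ ↔ ∃ h : x ∈ J, φ ⟨x, h⟩ = 0 := Iff.rfl

theorem ext_le : ext J χ φ hφ ≤ J := fun _ ⟨h, _⟩ => h

theorem ker_mul_le : RingHom.ker χ * J ≤ ext J χ φ hφ := by
  rw [Ideal.mul_le]
  intro r hr x hx
  refine ⟨J.mul_mem_left r hx, ?_⟩
  rw [show (⟨r * x, J.mul_mem_left r hx⟩ : J) = r • ⟨x, hx⟩ from rfl, hφ, RingHom.mem_ker.1 hr,
    zero_mul]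

theorem degI_ext {n : ℕ} (hJ : DegI A n J) (hsurj : Function.Surjective φ) :
    DegI A (n + 1) (ext J χ φ hφ) := by
  haveI := hJ.1; haveI := hJ.2.1
  let q : P →ₗ[A] P ⧸ J := (Ideal.Quotient.mkₐ A J).toLinearMap
  obtain ⟨s, hs⟩ := Module.projective_lifting_property q LinearMap.id Ideal.Quotient.mk_surjective
  have hsq : ∀ b, q (s b) = b := fun b => LinearMap.congr_fun hs b
  have hπ : ∀ x, x - s (q x) ∈ J := fun x =>
    Ideal.Quotient.eq_zero_iff_mem.1 (show q (x - s (q x)) = 0 by rw [map_sub, hsq, sub_self])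
  let π : P →ₗ[A] J :=
    { toFun := fun x => ⟨x - s (q x), hπ x⟩
      map_add' := fun x y => Subtype.ext (by simp only [map_add, Submodule.coe_add]; abel)
      map_smul' := fun c x => Subtype.ext (by
        simp only [map_smul, RingHom.id_apply, Submodule.coe_smul_of_tower, smul_sub]) }
  let Ψ : P →ₗ[A] (P ⧸ J) × A := q.prod (φ.comp π)
  have hΨ : ∀ x, Ψ x = (q x, φ ⟨x - s (q x), hπ x⟩) := fun x => rfl
  have hker : LinearMap.ker Ψ = (ext J χ φ hφ).restrictScalars A := by
    ext x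
    rw [LinearMap.mem_ker, hΨ, Prod.mk_eq_zero, Submodule.restrictScalars_mem, mem_ext]
    constructor
    · rintro ⟨h1, h2⟩
      refine ⟨Ideal.Quotient.eq_zero_iff_mem.1 h1, ?_⟩
      simpa only [h1, map_zero, sub_zero] using h2
    · rintro ⟨h1, h2⟩
      have h1' : q x = 0 := Ideal.Quotient.eq_zero_iff_mem.2 h1
      refine ⟨h1', ?_⟩
      simpa only [h1', map_zero, sub_zero] using h2
  have hs' : Function.Surjective Ψ := by
    rintro ⟨c, a⟩
    obtain ⟨j, hj⟩ := hsurj a
    have hj0 : q j.1 = 0 := Ideal.Quotient.eq_zero_iff_mem.2 j.2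
    refine ⟨s c + j.1, ?_⟩
    rw [hΨ]
    refine Prod.ext (by simp [map_add, hsq, hj0]) ?_
    simp only
    refine (congrArg φ (Subtype.ext ?_)).trans hj
    simp [map_add, hsq, hj0]
  let e : (P ⧸ ext J χ φ hφ) ≃ₗ[A] (P ⧸ J) × A :=
    ((Submodule.Quotient.restrictScalarsEquiv A (ext J χ φ hφ)).symm.trans
      (Submodule.quotEquivOfEq _ _ hker.symm)).trans (Ψ.quotKerEquivOfSurjective hs')
  refine ⟨Module.Finite.equiv e.symm, Module.Projective.of_equiv e.symm, fun p => ?_⟩
  haveI : Nontrivial A := nontrivial_of_ne 0 1 fun h => p.2.ne_top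
    (Ideal.eq_top_iff_one _ |>.2 (h ▸ p.asIdeal.zero_mem))
  rw [Module.rankAtStalk_eq_of_equiv e, Module.rankAtStalk_prod, Pi.add_apply, hJ.2.2 p,
    Module.rankAtStalk_self, Pi.one_apply]

end Ext

/-- Semilinearity of a functional propagates from generators of an ideal. -/
theorem semilinear_of_span (χ : P →ₐ[A] A) (Φ : P →ₗ[A] A) (s : Set P)
    (h : ∀ g ∈ s, ∀ y, Φ (y * g) = χ y * Φ g) {x : P} (hx : x ∈ Ideal.span s) (y : P) :
    Φ (y * x) = χ y * Φ x := by
  induction hx using Submodule.span_induction generalizing y with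
  | mem g hg => exact h g hg y
  | zero => simp
  | add a b _ _ ha hb => rw [mul_add, map_add, map_add, ha, hb, mul_add]
  | smul c a _ ha => rw [smul_eq_mul, ← mul_assoc, ha, ha, map_mul, mul_assoc]

section Tensor

variable {k : Type u} [CommRing k] {A C : Type u} [CommRing A] [Algebra k A] [CommRing C]
  [Algebra k C] {R : Type u} [CommRing R] [Algebra k R]

/-- The point of `A ⊗ R` over `A` given by an `A`-valued point of `R`. -/
noncomputable def ev (χ : R →ₐ[k] A) : A ⊗[k] R →ₐ[A] A :=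
  Algebra.TensorProduct.lift (AlgHom.id A A) χ fun _ _ => Commute.all _ _

@[simp] theorem ev_tmul (χ : R →ₐ[k] A) (a : A) (r : R) : ev χ (a ⊗ₜ[k] r) = a * χ r := by
  simp [ev]

/-- The base change map. -/
noncomputable abbrev bc (θ : A →ₐ[k] C) : A ⊗[k] R →ₐ[k] C ⊗[k] R :=
  Algebra.TensorProduct.map θ (AlgHom.id k R)

theorem ev_bc (χ : R →ₐ[k] A) (θ : A →ₐ[k] C) (x : A ⊗[k] R) :
    ev (θ.comp χ) (bc θ x) = θ (ev χ x) := by
  induction x using TensorProduct.induction_on with
  | zero => simp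
  | tmul a r => simp
  | add x y hx hy => simp only [map_add, hx, hy]

theorem ker_ev_le_map (χ : R →ₐ[k] A) (θ : A →ₐ[k] C) :
    RingHom.ker (ev (θ.comp χ)) ≤ (RingHom.ker (ev χ)).map (bc θ) := by
  have key : ∀ x, x - (ev (θ.comp χ) x) ⊗ₜ[k] (1 : R) ∈ (RingHom.ker (ev χ)).map (bc θ) := by
    intro x
    induction x using TensorProduct.induction_on with
    | zero => simp
    | tmul c r =>
      have h1 : (1 : A) ⊗ₜ[k] r - χ r ⊗ₜ[k] (1 : R) ∈ RingHom.ker (ev χ) := by
        simp [RingHom.mem_ker]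
      have h2 := Ideal.mem_map_of_mem (bc θ) h1
      have h3 : c ⊗ₜ[k] r - (ev (θ.comp χ) (c ⊗ₜ[k] r)) ⊗ₜ[k] (1 : R) =
          (c ⊗ₜ[k] (1 : R)) * bc θ ((1 : A) ⊗ₜ[k] r - χ r ⊗ₜ[k] (1 : R)) := by
        simp [mul_sub, Algebra.TensorProduct.tmul_mul_tmul]
      rw [h3]
      exact Ideal.mul_mem_left _ _ h2
    | add x y hx hy =>
      rw [map_add, TensorProduct.add_tmul, add_sub_add_comm]
      exact add_mem hx hy
  intro x hx
  simpa [RingHom.mem_ker.1 hx] using key x

theorem ker_mul_map_le {J J' : Ideal (A ⊗[k] R)} (χ : R →ₐ[k] A) (θ : A →ₐ[k] C)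
    (h : RingHom.ker (ev χ) * J ≤ J') :
    RingHom.ker (ev (θ.comp χ)) * J.map (bc θ) ≤ J'.map (bc θ) :=
  (Ideal.mul_mono_left (ker_ev_le_map χ θ)).trans
    ((Ideal.map_mul _ _ _).symm.le.trans (Ideal.map_mono h))

end Tensor

end Groth.HilbConn
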