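import Groth.Agent.HilbConn.Algebra
import Groth.Agent.HilbPts.Transfer
import Groth.Agent.HilbPts.Locus2

/-!
# Classifying maps of ideals in affine charts

For a separated `k`-scheme `Y` and a chart `Spec R ↪ Y`, ideals of `A ⊗ R` with quotient finite
projective of rank `n` give morphisms from `Spec A` to the Hilbert scheme of `n` points.
-/

set_option autoImplicit false
set_option linter.style.haveILetI false

universe u

open CategoryTheory CategoryTheory.Limits AlgebraicGeometry TensorProduct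
open Groth.GrassRep (Pt ptMap)
open Groth.HilbPts

noncomputable section

namespace Groth.HilbConn

variable {k : Type u} [Field k]

/-- An affine chart of a `k`-scheme. -/
structure Chart (Y : Over (Spec (CommRingCat.of k))) where
  R : CommAlgCat.{u} k
  j : Spec (CommRingCat.of R) ⟶ Y.left
  isOpen : IsOpenImmersion j
  w : j ≫ Y.hom = f₀ R ≫ 𝟙 (Spec (CommRingCat.of k))

attribute [instance] Chart.isOpen

variable {Y : Over (Spec (CommRingCat.of k))}

instance (c : Chart Y) [LocallyOfFiniteType Y.hom] : Algebra.FiniteType k c.R := by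
  have h : LocallyOfFiniteType (f₀ (R := k) c.R) := by
    rw [← Category.comp_id (f₀ c.R), ← c.w]
    infer_instance
  rw [HasRingHomProperty.Spec_iff (P := @LocallyOfFiniteType), CommRingCat.hom_ofHom,
    RingHom.finiteType_algebraMap] at h
  exact h

/-- Every affine open gives a chart. -/
theorem exists_chart {U : Y.left.Opens} (hU : IsAffineOpen U) :
    ∃ c : Chart Y, Set.range c.j = U := by
  letI : Algebra k Γ(Y.left, U) := (Spec.preimage (hU.fromSpec ≫ Y.hom)).hom.toAlgebra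
  refine ⟨⟨CommAlgCat.of k Γ(Y.left, U), hU.fromSpec, inferInstance, ?_⟩, hU.range_fromSpec⟩
  rw [Category.comp_id]
  exact (Spec.map_preimage _).symm

/-- The structure of `Spec A` through the identity of the base. -/
def β (A : CommAlgCat.{u} k) : Pt A ⟶ mapT (𝟙 (Spec (CommRingCat.of k))) (Pt A) :=
  Over.homMk (𝟙 _) (by
    show 𝟙 _ ≫ (Pt A).hom ≫ 𝟙 _ = (Pt A).hom
    rw [Category.comp_id, Category.id_comp])

/-- The inverse of `β`. -/
def α (A : CommAlgCat.{u} k) : mapT (𝟙 (Spec (CommRingCat.of k))) (Pt A) ⟶ Pt A :=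
  Over.homMk (𝟙 _) (by
    show 𝟙 _ ≫ (Pt A).hom = (Pt A).hom ≫ 𝟙 _
    rw [Category.comp_id, Category.id_comp])

theorem α_β (A : CommAlgCat.{u} k) : α A ≫ β A = 𝟙 _ := by
  ext; exact Category.id_comp _

theorem β_α (A : CommAlgCat.{u} k) : β A ≫ α A = 𝟙 _ := by
  ext; exact Category.id_comp _

variable [IsSeparated Y.hom]

/-- The family of an ideal in a chart. -/
def fam (c : Chart Y) {n : ℕ} {A : CommAlgCat.{u} k} (J : Ideal (A ⊗[k] c.R)) (hJ : DegI A n J) :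
    HilbD.Obj Y.hom n (Pt A) :=
  pullObj (β A) (up c.w ⟨sub J, (isFinLocFreeOfDeg_sub J).2 hJ⟩)

theorem inP_fam (c : Chart Y) {n : ℕ} {A : CommAlgCat.{u} k} (J : Ideal (A ⊗[k] c.R))
    (hJ : DegI A n J) : InP c.j (𝟙 (Spec (CommRingCat.of k))) (fam c J hJ).1 :=
  (inP_up c.w _).pull (β A)

theorem degI_map {R : Type u} [CommRing R] [Algebra k R] {n : ℕ} {A C : CommAlgCat.{u} k}
    (φ : A ⟶ C) {J : Ideal (A ⊗[k] R)} (hJ : DegI A n J) : DegI C n (J.map (bc φ.hom)) := by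
  refine (isFinLocFreeOfDeg_sub (B := R) _).1 ?_
  let I : HilbD.Obj (f₀ (R := k) R) n (Pt A) := ⟨sub J, (isFinLocFreeOfDeg_sub (B := R) J).2 hJ⟩
  have he : HilbD.pull (f₀ (R := k) R) (ptMap φ) I.1 = sub (J.map (bc φ.hom)) := pull_sub φ J
  rw [← he]
  exact (pullObj (ptMap φ) I).2

theorem pull_fam (c : Chart Y) {n : ℕ} {A C : CommAlgCat.{u} k} (φ : A ⟶ C)
    (J : Ideal (A ⊗[k] c.R)) (hJ : DegI A n J) :
    HilbD.pull Y.hom (ptMap φ) (fam c J hJ).1 =
      (fam c (J.map (bc φ.hom)) (degI_map φ hJ)).1 := by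
  show HilbD.pull Y.hom (ptMap φ) (HilbD.pull Y.hom (β A) _) = HilbD.pull Y.hom (β C) _
  rw [pull_pull]
  have h : ptMap φ ≫ β A = β C ≫ mapHom (𝟙 _) (ptMap φ) := by
    ext
    exact (Category.comp_id _).trans (Category.id_comp _).symm
  rw [h, ← pull_pull, pull_up]
  congr 3
  exact Subtype.ext (pull_sub φ J)

variable {n : ℕ} {H : Over (Spec (CommRingCat.of k))} {Z : HilbD.Obj Y.hom n H}
  (hH : HilbD.IsUniversal Y.hom n H Z)

/-- The classifying map of an ideal in a chart. -/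
def cls (c : Chart Y) {A : CommAlgCat.{u} k} (J : Ideal (A ⊗[k] c.R)) (hJ : DegI A n J) :
    Pt A ⟶ H :=
  (hH (Pt A) (fam c J hJ)).choose

theorem pull_cls (c : Chart Y) {A : CommAlgCat.{u} k} (J : Ideal (A ⊗[k] c.R)) (hJ : DegI A n J) :
    HilbD.pull Y.hom (cls hH c J hJ) Z.1 = (fam c J hJ).1 :=
  (hH (Pt A) (fam c J hJ)).choose_spec.1

theorem cls_map (c : Chart Y) {A C : CommAlgCat.{u} k} (φ : A ⟶ C)
    (J : Ideal (A ⊗[k] c.R)) (hJ : DegI A n J) :
    ptMap φ ≫ cls hH c J hJ = cls hH c (J.map (bc φ.hom)) (degI_map φ hJ) := by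
  refine (hH (Pt C) (fam c _ (degI_map φ hJ))).choose_spec.2 _ ?_
  show HilbD.pull Y.hom _ Z.1 = _
  rw [← pull_pull, pull_cls, pull_fam]

theorem cls_congr (c : Chart Y) {A : CommAlgCat.{u} k} {J J' : Ideal (A ⊗[k] c.R)}
    (hJ : DegI A n J) (hJ' : DegI A n J') (h : J = J') : cls hH c J hJ = cls hH c J' hJ' := by
  subst h; rfl

theorem range_cls_subset (c : Chart Y) {A : CommAlgCat.{u} k} (J : Ideal (A ⊗[k] c.R))
    (hJ : DegI A n J) : Set.range (cls hH c J hJ).left ⊆ locus c.j (𝟙 _) Z := by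
  rw [← inP_pull_iff, pull_cls]
  exact inP_fam c J hJ

theorem exists_cls (c : Chart Y) {A : CommAlgCat.{u} k} (g : Pt A ⟶ H)
    (hg : Set.range g.left ⊆ locus c.j (𝟙 _) Z) :
    ∃ (J : Ideal (A ⊗[k] c.R)) (hJ : DegI A n J), cls hH c J hJ = g := by
  have hIn : InP c.j (𝟙 (Spec (CommRingCat.of k))) (HilbD.pull Y.hom g Z.1) :=
    (inP_pull_iff c.j (𝟙 _) g Z).2 hg
  obtain ⟨I, hI⟩ := exists_up_eq c.w (pullObj (α A) (pullObj g Z)) (hIn.pull (α A))
  obtain ⟨J, hJ⟩ := exists_sub_eq I.1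
  have hd : DegI A n J := (isFinLocFreeOfDeg_sub J).1 (hJ ▸ I.2)
  refine ⟨J, hd, ((hH (Pt A) (fam c J hd)).choose_spec.2 g ?_).symm⟩
  show HilbD.pull Y.hom g Z.1 = HilbD.pull Y.hom (β A) _
  rw [show (⟨sub J, (isFinLocFreeOfDeg_sub J).2 hd⟩ : HilbD.Obj (f₀ c.R) n (Pt A)) = I from
    Subtype.ext hJ, hI]
  show _ = HilbD.pull Y.hom (β A) (HilbD.pull Y.hom (α A) _)
  rw [pull_pull, β_α, pull_id]
  rfl

/-- Comparing the ideals of a family in two nested charts. -/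
theorem eq_comap_of_cls_eq (c₁ c₃ : Chart Y) (ρ : c₁.R ⟶ c₃.R)
    (hρ : Spec.map (CommRingCat.ofHom ρ.hom.toRingHom) ≫ c₁.j = c₃.j) {A : CommAlgCat.{u} k}
    (J₁ : Ideal (A ⊗[k] c₁.R)) (h₁ : DegI A n J₁) (J₃ : Ideal (A ⊗[k] c₃.R)) (h₃ : DegI A n J₃)
    (he : cls hH c₁ J₁ h₁ = cls hH c₃ J₃ h₃) :
    J₁ = J₃.comap (Algebra.TensorProduct.map (AlgHom.id k A) ρ.hom) := by
  set r := Algebra.TensorProduct.map (AlgHom.id k A) ρ.hom with hr
  set U₁ := up c₁.w (T₀ := Pt A) (⟨sub J₁, (isFinLocFreeOfDeg_sub J₁).2 h₁⟩ : HilbD.Obj _ n _)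
    with hU₁
  set U₃ := up c₃.w (T₀ := Pt A) (⟨sub J₃, (isFinLocFreeOfDeg_sub J₃).2 h₃⟩ : HilbD.Obj _ n _)
    with hU₃
  have hU : U₁.1 = U₃.1 := by
    have h : HilbD.pull Y.hom (β A) U₁.1 = HilbD.pull Y.hom (β A) U₃.1 :=
      (pull_cls hH c₁ J₁ h₁).symm.trans ((congrArg (fun g => HilbD.pull Y.hom g Z.1) he).trans (pull_cls hH c₃ J₃ h₃))
    have := congrArg (HilbD.pull Y.hom (α A)) h
    rwa [pull_pull, pull_pull, α_β, pull_id, pull_id] at this
  have hkap : (eA A).hom ≫ kap c₃.w (Pt A) =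
      Spec.map (CommRingCat.ofHom r.toRingHom) ≫ (eA A).hom ≫ kap c₁.w (Pt A) := by
    have h1 : r.toRingHom.comp (Algebra.TensorProduct.includeRight :
        c₁.R →ₐ[k] A ⊗[k] c₁.R).toRingHom =
        (Algebra.TensorProduct.includeRight : c₃.R →ₐ[k] A ⊗[k] c₃.R).toRingHom.comp
          ρ.hom.toRingHom := RingHom.ext fun x => by simp [r]
    have h2 : r.toRingHom.comp (Algebra.TensorProduct.includeLeftRingHom : A →+* A ⊗[k] c₁.R) =
        (Algebra.TensorProduct.includeLeftRingHom : A →+* A ⊗[k] c₃.R) :=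
      RingHom.ext fun x => by simp [r]
    apply pullback.hom_ext
    · simp only [Category.assoc, kap_fst, eA_hom_fst_assoc]
      rw [← hρ, ← Spec.map_comp_assoc, ← Spec.map_comp_assoc, ← CommRingCat.ofHom_comp,
        ← CommRingCat.ofHom_comp, h1]
    · simp only [Category.assoc, kap_proj, eA_hom_snd]
      rw [← Spec.map_comp, ← CommRingCat.ofHom_comp, h2]
  apply le_antisymm
  · have hx : U₃.1 ≤ (subHom J₃ ≫ kap c₃.w (Pt A)).ker :=
      (up_le_ker c₃.w _ _).2 ⟨subHom J₃, rfl, le_rfl⟩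
    rw [← hU] at hx
    obtain ⟨y, hy, hy1⟩ := (up_le_ker c₁.w _ _).1 hx
    have hy' : y = Spec.map (CommRingCat.ofHom
        ((Ideal.Quotient.mk J₃).comp r.toRingHom)) ≫ (eA A).hom := by
      rw [← cancel_mono (kap c₁.w (Pt A)), hy, subHom, Category.assoc, hkap,
        CommRingCat.ofHom_comp, Spec.map_comp]
      simp only [Category.assoc]
    intro x hx'
    have h := (sub_le_ker J₁ y).1 hy1 hx'
    rw [RingHom.mem_ker, hy', psi, Category.assoc, Iso.hom_inv_id, Category.comp_id,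
      ← Scheme.ΓSpecIso_inv_naturality] at h
    rw [Ideal.mem_comap, ← Ideal.Quotient.eq_zero_iff_mem]
    exact (ConcreteCategory.bijective_of_isIso
      (Scheme.ΓSpecIso _).inv).1 (h.trans (map_zero _).symm)
  · have hx : U₁.1 ≤ (subHom J₁ ≫ kap c₁.w (Pt A)).ker :=
      (up_le_ker c₁.w _ _).2 ⟨subHom J₁, rfl, le_rfl⟩
    rw [hU] at hx
    obtain ⟨y, hy, hy3⟩ := (up_le_ker c₃.w _ _).1 hx
    obtain ⟨q, hq'⟩ : ∃ q : CommRingCat.of (A ⊗[k] c₃.R) ⟶
        CommRingCat.of ((A ⊗[k] c₁.R) ⧸ J₁), Spec.map q ≫ (eA A).hom = y :=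
      ⟨Spec.preimage (y ≫ (eA A).inv), by rw [Spec.map_preimage, Category.assoc, Iso.inv_hom_id,
        Category.comp_id]⟩
    have hmk : CommRingCat.ofHom r.toRingHom ≫ q = CommRingCat.ofHom (Ideal.Quotient.mk J₁) := by
      refine Spec.map_injective ?_
      rw [← cancel_mono ((eA A).hom ≫ kap c₁.w (Pt A)), Spec.map_comp, Category.assoc, ← hkap,
        ← Category.assoc, hq', hy, subHom, Category.assoc]
    intro x hx'
    have h := (sub_le_ker J₃ y).1 hy3 hx'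
    rw [RingHom.mem_ker, ← hq', psi, Category.assoc, Iso.hom_inv_id, Category.comp_id,
      ← Scheme.ΓSpecIso_inv_naturality] at h
    have h' : q.hom (r x) = 0 := (ConcreteCategory.bijective_of_isIso
      (Scheme.ΓSpecIso _).inv).1 (h.trans (map_zero _).symm)
    rw [← Ideal.Quotient.eq_zero_iff_mem, ← h']
    exact (RingHom.congr_fun (congrArg CommRingCat.Hom.hom hmk) x).symm

end Groth.HilbConn
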