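import Groth.Agent.HilbConn.Spread

/-!
# Irreducible components of a connected scheme of positive dimension
-/

set_option autoImplicit false
set_option linter.style.haveILetI false
set_option linter.unusedSectionVars false
set_option synthInstance.maxHeartbeats 200000

universe u

open CategoryTheory CategoryTheory.Limits AlgebraicGeometry TensorProduct

noncomputable section

namespace Groth.HilbConn

variable {k : Type u} [Field k] {Y : Over (Spec (CommRingCat.of k))}
variable [LocallyOfFiniteType Y.hom] [QuasiCompact Y.hom] [ConnectedSpace Y.left]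

theorem noetherianSpace : TopologicalSpace.NoetherianSpace Y.left := by
  haveI : IsLocallyNoetherian Y.left := LocallyOfFiniteType.isLocallyNoetherian Y.hom
  haveI : CompactSpace Y.left := QuasiCompact.compactSpace_of_compactSpace Y.hom
  haveI : IsNoetherian Y.left := { }
  infer_instance

/-- No irreducible component is a point. -/
theorem not_subsingleton_component (hY : 0 < topologicalKrullDim Y.left) {Zc : Set Y.left}
    (hZ : Zc ∈ irreducibleComponents Y.left) : ¬ Zc.Subsingleton := by
  intro hs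
  haveI := noetherianSpace (Y := Y)
  obtain ⟨y, hy⟩ := hZ.1.nonempty
  have hZy : Zc = {y} := hs.eq_singleton_of_mem hy
  have hclosed : IsClosed ({y} : Set Y.left) := hZy ▸ isClosed_of_mem_irreducibleComponents Zc hZ
  let O : Set Y.left := ⋃ Z ∈ irreducibleComponents Y.left \ {Zc}, Z
  have hO : IsClosed O := Set.Finite.isClosed_biUnion
    TopologicalSpace.NoetherianSpace.finite_irreducibleComponents.sdiff
    fun Z hZ' => isClosed_of_mem_irreducibleComponents Z hZ'.1
  have hcompl : ({y} : Set Y.left)ᶜ = O := by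
    ext x
    simp only [Set.mem_compl_iff, Set.mem_singleton_iff, O, Set.mem_iUnion₂, Set.mem_sdiff]
    constructor
    · intro hx
      refine ⟨irreducibleComponent x,
        ⟨irreducibleComponent_mem_irreducibleComponents x, fun h => hx ?_⟩,
        mem_irreducibleComponent⟩
      have : x ∈ Zc := h ▸ mem_irreducibleComponent
      exact hs this hy
    · rintro ⟨Z, ⟨hZ1, hZ2⟩, hxZ⟩ rfl
      refine hZ2 (Set.mem_singleton_iff.2 ?_)
      have hle : Zc ≤ Z := hZy ▸ Set.singleton_subset_iff.2 hxZ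
      exact le_antisymm (hZ.2 hZ1.1 hle) hle
  have hclopen : IsClopen ({y} : Set Y.left) :=
    ⟨hclosed, isClosed_compl_iff.1 (hcompl ▸ hO)⟩
  obtain h | h := isClopen_iff.1 hclopen
  · exact Set.singleton_ne_empty y h
  · haveI : Subsingleton Y.left := ⟨fun a b => by
      have ha : a ∈ ({y} : Set Y.left) := h ▸ Set.mem_univ a
      have hb : b ∈ ({y} : Set Y.left) := h ▸ Set.mem_univ b
      exact ha.trans hb.symm⟩
    haveI : DiscreteTopology Y.left := inferInstance
    exact absurd hY (not_lt.2 (topologicalKrullDim_zero_of_discreteTopology Y.left))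

/-- The prime of an irreducible component in a chart is not maximal. -/
theorem exists_prime_of_component (hY : 0 < topologicalKrullDim Y.left) {Zc : Set Y.left}
    (hZ : Zc ∈ irreducibleComponents Y.left) (c : Chart Y) (hc : (Zc ∩ Set.range c.j).Nonempty) :
    ∃ 𝔭 : Ideal c.R, 𝔭.IsPrime ∧ ¬ 𝔭.IsMaximal ∧
      ∀ χ : c.R →ₐ[k] k₀ k, ptY c χ ∈ Zc → 𝔭 ≤ RingHom.ker χ := by
  haveI : JacobsonSpace Y.left := LocallyOfFiniteType.jacobsonSpace Y.hom
  have hcl := isClosed_of_mem_irreducibleComponents Zc hZ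
  have hη : IsGenericPoint hZ.1.genericPoint Zc := hZ.1.isGenericPoint_genericPoint hcl
  set η := hZ.1.genericPoint with hηdef
  obtain ⟨p, hp⟩ : η ∈ Set.range c.j :=
    (hη.mem_open_set_iff c.j.isOpenEmbedding.isOpen_range).2 hc
  refine ⟨p.asIdeal, p.2, fun hmax => ?_, fun χ hχ => ?_⟩
  · have hpc : p ∈ closedPoints (PrimeSpectrum c.R) :=
      (PrimeSpectrum.isClosed_singleton_iff_isMaximal p).2 hmax
    have h : c.j p ∈ closedPoints Y.left :=
      (Set.ext_iff.1 (c.j.isOpenEmbedding.preimage_closedPoints) p).2 hpc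
    rw [hp, mem_closedPoints_iff] at h
    refine not_subsingleton_component hY hZ ?_
    rw [← hη.def, h.closure_eq]
    exact Set.subsingleton_singleton
  · have hs : η ⤳ ptY c χ := hη.specializes hχ
    rw [← hp] at hs
    have hs' := c.j.isOpenEmbedding.toIsEmbedding.toIsInducing.specializes_iff.1 hs
    have := (PrimeSpectrum.le_iff_specializes p _).2 hs'
    exact (asIdeal_point χ) ▸ this

/-- Through every rational point of a chart there is a nonmaximal prime. -/
theorem exists_prime (hY : 0 < topologicalKrullDim Y.left) (c : Chart Y) (χ : c.R →ₐ[k] k₀ k) :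
    ∃ 𝔭 : Ideal c.R, 𝔭.IsPrime ∧ ¬ 𝔭.IsMaximal ∧ 𝔭 ≤ RingHom.ker χ := by
  obtain ⟨𝔭, h1, h2, h3⟩ := exists_prime_of_component hY
    (irreducibleComponent_mem_irreducibleComponents (ptY c χ)) c
    ⟨_, mem_irreducibleComponent, ptY_mem c χ⟩
  exact ⟨𝔭, h1, h2, h3 χ mem_irreducibleComponent⟩

/-- An ideal of finite colength is in no nonmaximal prime. -/
theorem not_le_comap_low {R : Type u} [CommRing R] [Algebra k R] {n : ℕ}
    {J : Ideal ((k₀ k) ⊗[k] R)} (hJ : DegI (k₀ k) n J) (𝔭 : Ideal R) [𝔭.IsPrime]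
    (h𝔭 : ¬ 𝔭.IsMaximal) : ¬ J ≤ 𝔭.comap (low k R) := by
  intro hle
  haveI : Module.Finite k (((k₀ k) ⊗[k] R) ⧸ J) := hJ.1
  haveI : IsArtinianRing (((k₀ k) ⊗[k] R) ⧸ J) := IsArtinianRing.of_finite k _
  set q := 𝔭.comap (low k R) with hq
  haveI : q.IsPrime := Ideal.comap_isPrime _ _
  have hs : Function.Surjective (low k R) := (Algebra.TensorProduct.lid k R).surjective
  haveI : (q.map (Ideal.Quotient.mk J)).IsPrime :=
    Ideal.map_isPrime_of_surjective Ideal.Quotient.mk_surjective (by rwa [Ideal.mk_ker])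
  haveI hqm : (q.map (Ideal.Quotient.mk J)).IsMaximal :=
    IsArtinianRing.isMaximal_of_isPrime (q.map (Ideal.Quotient.mk J))
  have hq' : q.IsMaximal := by
    have h := Ideal.comap_isMaximal_of_surjective (Ideal.Quotient.mk J)
      Ideal.Quotient.mk_surjective (K := q.map (Ideal.Quotient.mk J))
    rwa [Ideal.comap_map_of_surjective _ Ideal.Quotient.mk_surjective, ← RingHom.ker_eq_comap_bot,
      Ideal.mk_ker, sup_eq_left.2 hle] at h
  refine h𝔭 ?_
  have h := Ideal.map_eq_top_or_isMaximal_of_surjective (low k R).toRingHom hs hq'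
  have e : q.map (low k R).toRingHom = 𝔭 := Ideal.map_comap_of_surjective _ hs 𝔭
  rw [e] at h
  exact h.resolve_left (Ideal.IsPrime.ne_top inferInstance)

/-- A property of closed points which is constant on irreducible components is constant. -/
theorem forall_iff_of_component (P : Y.left → Prop)
    (h : ∀ Zc ∈ irreducibleComponents Y.left, ∀ y ∈ Zc, ∀ y' ∈ Zc,
      IsClosed ({y} : Set Y.left) → IsClosed ({y'} : Set Y.left) → (P y ↔ P y'))
    {y y' : Y.left} (hy : IsClosed ({y} : Set Y.left)) (hy' : IsClosed ({y'} : Set Y.left)) :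
    P y ↔ P y' := by
  haveI := noetherianSpace (Y := Y)
  haveI : JacobsonSpace Y.left := LocallyOfFiniteType.jacobsonSpace Y.hom
  suffices ∀ a b : Y.left, IsClosed ({a} : Set Y.left) → IsClosed ({b} : Set Y.left) → P a → P b from
    ⟨this _ _ hy hy', this _ _ hy' hy⟩
  intro a b ha hb hPa
  by_contra hPb
  let S : Set (Set Y.left) :=
    {Zc ∈ irreducibleComponents Y.left | ∃ x ∈ Zc, IsClosed ({x} : Set Y.left) ∧ P x}
  let T : Set (Set Y.left) :=
    {Zc ∈ irreducibleComponents Y.left | ∃ x ∈ Zc, IsClosed ({x} : Set Y.left) ∧ ¬ P x}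
  have hfin := TopologicalSpace.NoetherianSpace.finite_irreducibleComponents (α := Y.left)
  have hcS : IsClosed (⋃ Z ∈ S, Z) := (hfin.subset fun _ h => h.1).isClosed_biUnion
    fun Z hZ => isClosed_of_mem_irreducibleComponents Z hZ.1
  have hcT : IsClosed (⋃ Z ∈ T, Z) := (hfin.subset fun _ h => h.1).isClosed_biUnion
    fun Z hZ => isClosed_of_mem_irreducibleComponents Z hZ.1
  have hdisj : Disjoint (⋃ Z ∈ S, Z) (⋃ Z ∈ T, Z) := by
    rw [Set.disjoint_iff_inter_eq_empty]
    by_contra hne
    obtain ⟨x, ⟨hxS, hxT⟩, hx⟩ := nonempty_inter_closedPoints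
      (Set.nonempty_iff_ne_empty.2 hne) (hcS.inter hcT).isLocallyClosed
    simp only [Set.mem_iUnion₂] at hxS hxT
    obtain ⟨Z, ⟨hZ, u, huZ, hu, hPu⟩, hxZ⟩ := hxS
    obtain ⟨Z', ⟨hZ', v, hvZ, hv, hPv⟩, hxZ'⟩ := hxT
    exact hPv ((h Z' hZ' x hxZ' v hvZ hx hv).1 ((h Z hZ u huZ x hxZ hu hx).1 hPu))
  have hcover : (⋃ Z ∈ S, Z) ∪ (⋃ Z ∈ T, Z) = Set.univ := by
    refine Set.eq_univ_of_forall fun x => ?_
    have hx := irreducibleComponent_mem_irreducibleComponents x
    obtain ⟨u, huZ, hu⟩ := nonempty_inter_closedPoints ⟨x, mem_irreducibleComponent (x := x)⟩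
      (isClosed_of_mem_irreducibleComponents _ hx).isLocallyClosed
    by_cases hPu : P u
    · exact Or.inl (Set.mem_biUnion (⟨hx, u, huZ, hu, hPu⟩ : irreducibleComponent x ∈ S)
        mem_irreducibleComponent)
    · exact Or.inr (Set.mem_biUnion (⟨hx, u, huZ, hu, hPu⟩ : irreducibleComponent x ∈ T)
        mem_irreducibleComponent)
  have hopen : IsOpen (⋃ Z ∈ S, Z) := by
    rw [← isClosed_compl_iff, (IsCompl.of_eq hdisj.eq_bot hcover).compl_eq]
    exact hcT
  obtain h0 | h0 := isClopen_iff.1 ⟨hcS, hopen⟩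
  · exact Set.notMem_empty a (h0 ▸ Set.mem_biUnion
      (⟨irreducibleComponent_mem_irreducibleComponents a, a, mem_irreducibleComponent, ha, hPa⟩ :
        irreducibleComponent a ∈ S) mem_irreducibleComponent)
  · exact Set.disjoint_left.1 hdisj (h0 ▸ Set.mem_univ b) (Set.mem_biUnion
      (⟨irreducibleComponent_mem_irreducibleComponents b, b, mem_irreducibleComponent, hb, hPb⟩ :
        irreducibleComponent b ∈ T) mem_irreducibleComponent)

end Groth.HilbConn
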