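import Groth.Agent.HilbConn.Points

/-!
# Moving the extra point along an irreducible closed subset
-/

set_option autoImplicit false
set_option linter.style.haveILetI false
set_option linter.unusedSectionVars false
set_option synthInstance.maxHeartbeats 200000

universe u

open CategoryTheory CategoryTheory.Limits AlgebraicGeometry TensorProduct
open Groth.GrassRep (Pt ptMap)
open Groth.HilbPts

noncomputable section

namespace Groth.HilbConn

variable {k : Type u} [Field k]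
variable {Y : Over (Spec (CommRingCat.of k))} [IsSeparated Y.hom]
variable {n : ℕ} {H : Over (Spec (CommRingCat.of k))} {Z : HilbD.Obj Y.hom (n + 1) H}
  (hH : HilbD.IsUniversal Y.hom (n + 1) H Z) (c : Chart Y)

variable (k) in
/-- Collapsing the trivial base change. -/
def low (R : Type u) [CommRing R] [Algebra k R] : (k₀ k) ⊗[k] R →ₐ[k] R :=
  (Algebra.TensorProduct.lid k R).toAlgHom

theorem low_tmul {R : Type u} [CommRing R] [Algebra k R] (a : k₀ k) (r : R) :
    low k R (a ⊗ₜ[k] r) = (show k from a) • r :=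
  Algebra.TensorProduct.lid_tmul (R := k) (A := R) a r

theorem ev_eq_low {R : Type u} [CommRing R] [Algebra k R] (χ : R →ₐ[k] k₀ k)
    (x : (k₀ k) ⊗[k] R) : ev χ x = χ (low k R x) := by
  induction x using TensorProduct.induction_on with
  | zero => simp
  | tmul a r => rw [ev_tmul, low_tmul, map_smul]; rfl
  | add x y hx hy => simp only [map_add, hx, hy]

section Generic

variable (𝔭 : Ideal c.R) [𝔭.IsPrime]

/-- The function field of the closed subset of a prime. -/
abbrev fnField : CommAlgCat.{u} k := CommAlgCat.of k (FractionRing (c.R ⧸ 𝔭))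

/-- The generic point of the closed subset of a prime. -/
def genPt : c.R →ₐ[k] fnField c 𝔭 where
  toRingHom := (algebraMap (c.R ⧸ 𝔭) (FractionRing (c.R ⧸ 𝔭))).comp (Ideal.Quotient.mk 𝔭)
  commutes' r := (IsScalarTower.algebraMap_apply k (c.R ⧸ 𝔭) (FractionRing (c.R ⧸ 𝔭)) r).symm

theorem genPt_eq_zero_iff (x : c.R) : genPt c 𝔭 x = 0 ↔ x ∈ 𝔭 := by
  show algebraMap (c.R ⧸ 𝔭) (FractionRing (c.R ⧸ 𝔭)) (Ideal.Quotient.mk 𝔭 x) = 0 ↔ _
  rw [IsFractionRing.to_map_eq_zero_iff, Ideal.Quotient.eq_zero_iff_mem]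

theorem ev_genPt_up₀ (x : (k₀ k) ⊗[k] c.R) :
    ev (genPt c 𝔭) (up₀ (fnField c 𝔭) c.R x) = genPt c 𝔭 (low k c.R x) := by
  induction x using TensorProduct.induction_on with
  | zero => simp
  | tmul a r =>
    show ev (genPt c 𝔭) (Algebra.ofId k (fnField c 𝔭) a ⊗ₜ[k] r) = _
    rw [ev_tmul, low_tmul, map_smul, Algebra.ofId_apply, Algebra.smul_def]
  | add x y hx hy => simp only [map_add, hx, hy]

/-- The family over the function field. -/
def genIdeal (J : Ideal ((k₀ k) ⊗[k] c.R)) : Ideal (fnField c 𝔭 ⊗[k] c.R) :=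
  J.map (up₀ (fnField c 𝔭) c.R) ⊓ RingHom.ker (ev (genPt c 𝔭))

theorem degI_genIdeal {J : Ideal ((k₀ k) ⊗[k] c.R)} (hJ : DegI (k₀ k) n J) (hJp : ¬ J ≤ 𝔭.comap (low k c.R)) :
    DegI (fnField c 𝔭) (n + 1) (genIdeal c 𝔭 J) := by
  obtain ⟨x, hx, hx'⟩ := SetLike.not_le_iff_exists.1 hJp
  refine degI_inf_ker _ (degI_up₀ hJ) (Ideal.mem_map_of_mem _ hx) ?_
  rw [ev_genPt_up₀]
  exact Ne.isUnit (fun h => hx' ((genPt_eq_zero_iff c 𝔭 _).1 h))

variable [IsAlgClosed k] [LocallyOfFiniteType Y.hom]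

set_option maxHeartbeats 1000000 in
/-- An affine chart of the blow-up of the closed subset along an ideal, with a point over `χ`. -/
theorem exists_model {J : Ideal ((k₀ k) ⊗[k] c.R)} (hJp : ¬ J ≤ 𝔭.comap (low k c.R))
    {χ : c.R →ₐ[k] k₀ k} (hχ : 𝔭 ≤ RingHom.ker χ) :
    ∃ (A : CommAlgCat.{u} k) (i : A →ₐ[k] fnField c 𝔭) (θ : A →ₐ[k] k₀ k) (χA : c.R →ₐ[k] A),
      Function.Injective i ∧ i.comp χA = genPt c 𝔭 ∧ θ.comp χA = χ ∧
      ∃ a ∈ J, χA (low k c.R a) ≠ 0 ∧ ∀ x ∈ J, χA (low k c.R a) ∣ χA (low k c.R x) := by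
  classical
  let K : CommAlgCat.{u} k := fnField c 𝔭
  letI : Field K := inferInstanceAs (Field (FractionRing (c.R ⧸ 𝔭)))
  let π : c.R →ₐ[k] K := genPt c 𝔭
  haveI : IsNoetherianRing c.R := Algebra.FiniteType.isNoetherianRing k _
  haveI : IsNoetherianRing ((k₀ k) ⊗[k] c.R) :=
    isNoetherianRing_of_ringEquiv c.R (Algebra.TensorProduct.lid k c.R).toRingEquiv.symm
  -- a valuation ring at the point
  let I : Ideal π.toRingHom.range := (RingHom.ker χ.toRingHom).map π.toRingHom.rangeRestrict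
  have hI : I ≠ ⊤ := by
    intro hI
    have h1 : RingHom.ker χ.toRingHom ⊔ RingHom.ker π.toRingHom.rangeRestrict = ⊤ := by
      rw [RingHom.ker_eq_comap_bot π.toRingHom.rangeRestrict,
        ← Ideal.comap_map_of_surjective _ π.toRingHom.rangeRestrict_surjective]
      show I.comap _ = ⊤
      rw [hI, Ideal.comap_top]
    have h2 : RingHom.ker π.toRingHom.rangeRestrict ≤ RingHom.ker χ.toRingHom := fun x hx =>
      hχ ((genPt_eq_zero_iff c 𝔭 x).1 (congrArg Subtype.val hx))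
    rw [sup_eq_left.2 h2] at h1
    exact RingHom.ker_ne_top _ h1
  obtain ⟨V, hV, hVI⟩ := Ideal.image_subset_nonunits_valuationSubring I hI
  have hπV : ∀ x, π x ∈ V := fun x => hV ⟨x, rfl⟩
  -- the generator of largest value
  obtain ⟨s, hs⟩ := IsNoetherian.noetherian J
  let σ : (k₀ k) ⊗[k] c.R →ₐ[k] c.R := low k c.R
  have hsne : ∃ g ∈ s, π (σ g) ≠ 0 := by
    by_contra hh
    push Not at hh
    exact hJp (hs ▸ Submodule.span_le.2 fun g hg => (genPt_eq_zero_iff c 𝔭 (σ g)).1 (hh g hg))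
  obtain ⟨a, ha, hamax⟩ := s.exists_max_image (fun g => V.valuation (π (σ g)))
    (hsne.imp fun g hg => hg.1)
  have ha0 : π (σ a) ≠ 0 := by
    obtain ⟨g, hg, hg0⟩ := hsne
    intro h0
    have := hamax g hg
    simp only [h0, map_zero, le_zero_iff, map_eq_zero] at this
    exact hg0 this
  have hdiv : ∀ g ∈ s, π (σ g) / π (σ a) ∈ V := fun g hg => by
    rw [← V.valuation_le_one_iff, map_div₀]
    exact div_le_one_of_le₀ (hamax g hg) zero_le
  -- the ring of the chart of the blow-up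
  obtain ⟨gens, hgens⟩ := (inferInstance : Algebra.FiniteType k c.R).out
  let S : Finset K := gens.image π ∪ s.image (fun g => π (σ g) / π (σ a))
  let Vk : Subalgebra k K :=
    { V.toSubring.toSubsemiring with
      algebraMap_mem' := fun r => by
        have : algebraMap k K r = π (algebraMap k _ r) := (π.commutes r).symm
        rw [this]; exact hπV _ }
  let A₁ : Subalgebra k K := Algebra.adjoin k (S : Set K)
  have hAV : A₁ ≤ Vk := Algebra.adjoin_le fun x hx => by
    simp only [S, Finset.coe_union, Finset.coe_image, Set.mem_union, Set.mem_image] at hx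
    obtain ⟨g, -, rfl⟩ | ⟨g, hg, rfl⟩ := hx
    · exact hπV g
    · exact hdiv g hg
  have hπA : ∀ x, π x ∈ A₁ := fun x => by
    have : π.range ≤ A₁ := by
      rw [← Algebra.map_top, ← hgens, AlgHom.map_adjoin]
      refine Algebra.adjoin_mono ?_
      rintro _ ⟨g, hg, rfl⟩
      exact Finset.mem_union_left _ (Finset.mem_image_of_mem _ hg)
    exact this ⟨x, rfl⟩
  haveI : Algebra.FiniteType k A₁ :=
    (Subalgebra.fg_iff_finiteType A₁).1 (Subalgebra.fg_adjoin_finset S)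
  let A : CommAlgCat.{u} k := CommAlgCat.of k A₁
  let i : A →ₐ[k] K := A₁.val
  -- a closed point over `χ`
  let toV : A₁ →+* V :=
    { toFun := fun x => ⟨x.1, hAV x.2⟩
      map_one' := rfl
      map_mul' := fun _ _ => rfl
      map_zero' := rfl
      map_add' := fun _ _ => rfl }
  obtain ⟨M, hM, hqM⟩ := Ideal.exists_le_maximal ((IsLocalRing.maximalIdeal V).comap toV)
    (Ideal.comap_ne_top _ (IsLocalRing.maximalIdeal.isMaximal V).ne_top)
  letI : Field (A₁ ⧸ M) := Ideal.Quotient.field M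
  haveI : Algebra.FiniteType k (A₁ ⧸ M) :=
    Algebra.FiniteType.of_surjective (Ideal.Quotient.mkₐ k M) Ideal.Quotient.mk_surjective
  haveI : Module.Finite k (A₁ ⧸ M) := finite_of_finite_type_of_isJacobsonRing k _
  have hbij : Function.Bijective (algebraMap k (A₁ ⧸ M)) :=
    IsAlgClosed.algebraMap_bijective_of_isIntegral
  let θ : A →ₐ[k] k₀ k :=
    (AlgEquiv.ofBijective (Algebra.ofId k (A₁ ⧸ M)) hbij).symm.toAlgHom.comp (Ideal.Quotient.mkₐ k M)
  let χA : c.R →ₐ[k] A := (genPt c 𝔭).codRestrict A₁ fun r => hπA _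
  have hiχ : i.comp χA = genPt c 𝔭 := AlgHom.ext fun r => rfl
  have hθ0 : ∀ x : A₁, x ∈ M → θ x = 0 := fun x hx => by
    show (AlgEquiv.ofBijective (Algebra.ofId k (A₁ ⧸ M)) hbij).symm (Ideal.Quotient.mk M x) = 0
    rw [Ideal.Quotient.eq_zero_iff_mem.2 hx, map_zero]
  have hθχ : θ.comp χA = χ := AlgHom.ext fun r => by
    set p : c.R := r - algebraMap k c.R (show k from χ r) with hp
    have hpm : p ∈ RingHom.ker χ.toRingHom := by
      rw [RingHom.mem_ker, hp]
      show χ _ = 0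
      rw [map_sub, AlgHom.commutes]
      exact sub_self _
    have hnu : π p ∈ V.nonunits := hVI ⟨_, Ideal.mem_map_of_mem _ hpm, rfl⟩
    have hq : (⟨π p, hπA p⟩ : A₁) ∈ M := hqM (ValuationSubring.coe_mem_nonunits_iff.1 hnu)
    have heq : (⟨π p, hπA p⟩ : A₁) = χA r - algebraMap k A₁ (show k from χ r) := Subtype.ext (by
      show π p = genPt c 𝔭 r - algebraMap k K (show k from χ r)
      rw [hp, map_sub, AlgHom.commutes])
    have h0 := hθ0 _ hq
    rw [heq, map_sub, θ.commutes, sub_eq_zero] at h0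
    exact h0
  refine ⟨A, i, θ, χA, Subtype.val_injective, hiχ, hθχ, a, hs ▸ Ideal.subset_span ha,
    fun h => ha0 (congrArg Subtype.val h), ?_⟩
  have : J ≤ (Ideal.span {χA (σ a)}).comap (χA.comp σ) := by
    rw [← hs]
    refine Submodule.span_le.2 fun g hg => ?_
    show χA (σ g) ∈ Ideal.span {χA (σ a)}
    refine Ideal.mem_span_singleton.2 ⟨(⟨π (σ g) / π (σ a), Algebra.subset_adjoin
      (Finset.mem_union_right _ (Finset.mem_image_of_mem _ hg))⟩ : A₁), Subtype.ext ?_⟩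
    show π (σ g) = π (σ a) * (π (σ g) / π (σ a))
    rw [mul_div_cancel₀ _ ha0]
  exact fun x hx => Ideal.mem_span_singleton.1 (this hx)

include hH in
set_option maxHeartbeats 1000000 in
/-- An enlargement at a point of `V(𝔭)` lies in the same clopen sets as the generic one. -/
theorem mem_iff_generic {W : Set H.left} (hW : IsClopen W) {J : Ideal ((k₀ k) ⊗[k] c.R)}
    (hJ : DegI (k₀ k) n J) (hJp : ¬ J ≤ 𝔭.comap (low k c.R)) {χ : c.R →ₐ[k] k₀ k}
    (hχ : 𝔭 ≤ RingHom.ker χ) {J' : Ideal ((k₀ k) ⊗[k] c.R)} (h' : IsExt c n χ J J') :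
    pt (cls hH c J' h'.deg) ∈ W ↔
      (cls hH c (genIdeal c 𝔭 J) (degI_genIdeal c 𝔭 hJ hJp)).left
        (⊥ : PrimeSpectrum (fnField c 𝔭)) ∈ W := by
  obtain ⟨A, i, θ, χA, hi, hiχ, hθχ, a, ha, ha0, hdvd₀⟩ := exists_model c 𝔭 hJp hχ
  haveI : IsDomain A := hi.isDomain i.toRingHom
  -- the family
  let JA := J.map (up₀ A c.R)
  have hev : ∀ x, ev χA (up₀ A c.R x) = χA (low k c.R x) := fun x => by
    induction x using TensorProduct.induction_on with
    | zero => simp
    | tmul t r =>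
      show ev χA (Algebra.ofId k A t ⊗ₜ[k] r) = _
      rw [ev_tmul, low_tmul, map_smul, Algebra.ofId_apply, Algebra.smul_def]
    | add x y hx hy => simp only [map_add, hx, hy]
  let ā : A := χA (low k c.R a)
  have hdvd : ∀ x ∈ JA, ev χA x ∈ Ideal.span {ā} := by
    have : JA ≤ (Ideal.span {ā}).comap (ev χA) := by
      rw [Ideal.map_le_iff_le_comap]
      intro g hg
      show ev χA (up₀ A c.R g) ∈ Ideal.span {ā}
      rw [hev]
      exact Ideal.mem_span_singleton.2 (hdvd₀ g hg)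
    exact fun x hx => this hx
  have hā : ∀ {b b' : A}, ā * b = ā * b' → b = b' := fun h => mul_left_cancel₀ ha0 h
  choose φ₀ hφ₀ using fun x : JA => Ideal.mem_span_singleton.1 (hdvd x.1 x.2)
  let φ : JA →ₗ[A] A :=
    { toFun := φ₀
      map_add' := fun x y => hā (by rw [← hφ₀, mul_add, ← hφ₀, ← hφ₀, Submodule.coe_add, map_add])
      map_smul' := fun t x => hā (by
        rw [← hφ₀, RingHom.id_apply, smul_eq_mul, mul_left_comm, ← hφ₀,
          Submodule.coe_smul_of_tower, map_smul, smul_eq_mul]) }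
  have hφ : ∀ (y : A ⊗[k] c.R) (x : JA), φ (y • x) = ev χA y * φ x := fun y x => hā (by
    show ā * φ₀ (y • x) = ā * (ev χA y * φ₀ x)
    rw [← hφ₀, mul_left_comm, ← hφ₀]
    exact map_mul (ev χA) y x.1)
  have hsurj : Function.Surjective φ := fun t => by
    refine ⟨t • ⟨up₀ A c.R a, Ideal.mem_map_of_mem _ ha⟩, ?_⟩
    have h1 : φ₀ ⟨up₀ A c.R a, Ideal.mem_map_of_mem _ ha⟩ = 1 :=
      hā (by rw [← hφ₀, mul_one]; exact hev a)
    rw [map_smul]
    show t • φ₀ _ = t
    rw [h1, smul_eq_mul, mul_one]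
  let E := ext JA (ev χA) φ hφ
  have hE : DegI A (n + 1) E := degI_ext hφ (degI_up₀ hJ) hsurj
  -- the generic fibre
  have hgen : ptMap (CommAlgCat.ofHom i : A ⟶ fnField c 𝔭) ≫ cls hH c E hE =
      cls hH c (genIdeal c 𝔭 J) (degI_genIdeal c 𝔭 hJ hJp) := by
    rw [cls_map]
    refine cls_congr hH c _ _ (eq_of_le ?_ (degI_map _ hE) (degI_genIdeal c 𝔭 hJ hJp))
    rw [Ideal.map_le_iff_le_comap]
    rintro x ⟨hx, hx0⟩
    refine ⟨?_, ?_⟩
    · have h := Ideal.mem_map_of_mem (bc (C := fnField c 𝔭) i) hx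
      have hJA : JA.map (bc (C := fnField c 𝔭) i) = J.map (up₀ (fnField c 𝔭) c.R) := map_up₀_map (A := A) (C := fnField c 𝔭) i J
      exact hJA ▸ h
    · show ev (genPt c 𝔭) (bc (C := fnField c 𝔭) i x) = 0
      rw [← hiχ, ev_bc]
      have : ev χA x = 0 := by
        rw [hφ₀ ⟨x, hx⟩, show φ₀ ⟨x, hx⟩ = 0 from hx0, mul_zero]
      rw [this, map_zero]
  -- the special fibre
  have hspec : IsExt c n χ J (E.map (bc (C := k₀ k) θ)) := by
    refine ⟨degI_map (CommAlgCat.ofHom θ : A ⟶ k₀ k) hE, ?_, ?_⟩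
    · refine (Ideal.map_mono (ext_le hφ)).trans ?_
      rw [map_up₀_map (A := A) (C := k₀ k), up₀_self]
      exact (Ideal.map_id J).le
    · have h := ker_mul_map_le χA θ (ker_mul_le (χ := ev χA) hφ)
      rw [hθχ, map_up₀_map (A := A) (C := k₀ k), up₀_self] at h
      rw [← Ideal.map_id J]
      exact h
  rw [mem_iff_of_isExt hH c hW hJ h' hspec, ← cls_congr hH c (degI_map (CommAlgCat.ofHom θ : A ⟶ k₀ k) hE)
    hspec.deg rfl, ← cls_map hH c (CommAlgCat.ofHom θ : A ⟶ k₀ k) E hE, ← hgen, pt_comp]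
  exact mem_iff_mem hW _ _ _

end Generic

include hH in
/-- Enlargements at two points of one irreducible closed subset are in the same clopen sets. -/
theorem mem_iff_of_prime [IsAlgClosed k] [LocallyOfFiniteType Y.hom]
    (𝔭 : Ideal c.R) [𝔭.IsPrime] {W : Set H.left} (hW : IsClopen W)
    {J : Ideal ((k₀ k) ⊗[k] c.R)} (hJ : DegI (k₀ k) n J) (hJp : ¬ J ≤ 𝔭.comap (low k c.R))
    {χ χ' : c.R →ₐ[k] k₀ k} (hχ : 𝔭 ≤ RingHom.ker χ) (hχ' : 𝔭 ≤ RingHom.ker χ')
    {J' J'' : Ideal ((k₀ k) ⊗[k] c.R)} (h' : IsExt c n χ J J') (h'' : IsExt c n χ' J J'') :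
    pt (cls hH c J' h'.deg) ∈ W ↔ pt (cls hH c J'' h''.deg) ∈ W :=
  (mem_iff_generic hH c 𝔭 hW hJ hJp hχ h').trans (mem_iff_generic hH c 𝔭 hW hJ hJp hχ' h'').symm

end Groth.HilbConn
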