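import Groth.Agent.HilbConn.Steps
import Groth.Agent.HilbPts.GlueRep
import Groth.Agent.CurveDiv.HilbSmooth

/-!
# The Hilbert scheme of points of a connected projective scheme is connected
-/

set_option autoImplicit false
set_option linter.style.haveILetI false
set_option linter.unusedSectionVars false
set_option synthInstance.maxHeartbeats 200000

universe u

open CategoryTheory CategoryTheory.Limits AlgebraicGeometry TensorProduct
open Groth.GrassRep (Pt ptMap)
open Groth.HilbPts

noncomputable section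

namespace Groth.HilbConn

variable {k : Type u} [Field k] [IsAlgClosed k]
variable {Y : Over (Spec (CommRingCat.of k))} [IsSeparated Y.hom] [LocallyOfFiniteType Y.hom]
  [QuasiCompact Y.hom] [ConnectedSpace Y.left]

/-- Connectedness from the rational points. -/
theorem connectedSpace_of_rational (haff : HasAff Y) {n : ℕ}
    {H : Over (Spec (CommRingCat.of k))} {Z : HilbD.Obj Y.hom n H}
    (hH : HilbD.IsUniversal Y.hom n H Z) (hne : Nonempty (Pt (k₀ k) ⟶ H))
    (h : ∀ W : Set H.left, IsClopen W → ∀ q q' : Pt (k₀ k) ⟶ H, pt q ∈ W → pt q' ∈ W) :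
    ConnectedSpace H.left := by
  obtain ⟨q₀⟩ := hne
  haveI : Nonempty H.left := ⟨pt q₀⟩
  haveI : PreconnectedSpace H.left := by
    refine preconnectedSpace_iff_clopen.2 fun W hW => ?_
    rcases W.eq_empty_or_nonempty with hempty | hWne
    · exact Or.inl hempty
    refine Or.inr (by_contra fun hu => ?_)
    obtain ⟨q, hq⟩ := exists_rational_mem haff hH hW.2 hWne
    obtain ⟨q', hq'⟩ := exists_rational_mem haff hH hW.1.isOpen_compl
      (Set.nonempty_compl.2 hu)
    exact hq' (h W hW q q' hq)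
  exact { toNonempty := inferInstance }

/-- The inductive step. -/
theorem connectedSpace_succ (haff : HasAff Y) (hY : 0 < topologicalKrullDim Y.left) {n : ℕ}
    {H' : Over (Spec (CommRingCat.of k))} {Z' : HilbD.Obj Y.hom n H'}
    (hn : HilbD.IsUniversal Y.hom n H' Z') [ConnectedSpace H'.left]
    {H : Over (Spec (CommRingCat.of k))} {Z : HilbD.Obj Y.hom (n + 1) H}
    (hH : HilbD.IsUniversal Y.hom (n + 1) H Z) : ConnectedSpace H.left := by
  classical
  obtain ⟨h₀, -⟩ := exists_rational_mem haff hn isOpen_univ Set.univ_nonempty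
  haveI : JacobsonSpace Y.left := LocallyOfFiniteType.jacobsonSpace Y.hom
  obtain ⟨y₁, -, hy₁⟩ := nonempty_inter_closedPoints (Z := (Set.univ : Set Y.left))
    Set.univ_nonempty isClosed_univ.isLocallyClosed
  obtain ⟨q₀, hq₀⟩ := exists_step hn hH haff hY h₀ hy₁
  refine connectedSpace_of_rational haff hH ⟨q₀⟩ fun W hW q q' hqW => ?_
  obtain ⟨h, y, hy, hs⟩ := exists_step_eq hn hH haff q
  obtain ⟨h', y', hy', hs'⟩ := exists_step_eq hn hH haff q'
  choose O hO hmem hconst using fun g => exists_nbhd hn hH haff hY hW g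
  let In : (Pt (k₀ k) ⟶ H') → Prop := fun g =>
    ∃ y q, IsClosed ({y} : Set Y.left) ∧ Step hn hH g y q ∧ pt q ∈ W
  have hIn : ∀ {g y q}, IsClosed ({y} : Set Y.left) → Step hn hH g y q → (In g ↔ pt q ∈ W) :=
    fun {g y q} hy hs => ⟨fun ⟨y₂, q₂, hy₂, hs₂, h₂⟩ =>
      (step_iff' hn hH haff hY hW hy₂ hy hs₂ hs).1 h₂, fun h₂ => ⟨y, q, hy, hs, h₂⟩⟩
  have hloc : ∀ g g' : Pt (k₀ k) ⟶ H', pt g' ∈ O g → (In g ↔ In g') := by
    intro g g' hg'
    obtain ⟨a, ha⟩ := exists_step hn hH haff hY g hy₁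
    obtain ⟨b, hb⟩ := exists_step hn hH haff hY g' hy₁
    rw [hIn hy₁ ha, hIn hy₁ hb]
    exact hconst g g' hg' _ _ _ _ hy₁ hy₁ ha hb
  let U : Set H'.left := ⋃ g : {g // In g}, O g.1
  let U' : Set H'.left := ⋃ g : {g // ¬ In g}, O g.1
  have hcov : U ∪ U' = Set.univ := by
    refine Set.eq_univ_of_forall fun x => ?_
    obtain ⟨A, _, _, f, hf⟩ := exists_family haff hn x
    haveI : IsJacobsonRing A := isJacobsonRing_of_finiteType (A := k)
    obtain ⟨p, -, hpc⟩ := @nonempty_inter_closedPoints _ _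
      (PrimeSpectrum.isJacobsonRing_iff_jacobsonSpace.mp ‹IsJacobsonRing A›)
      (Set.univ : Set (PrimeSpectrum A)) ⟨⊥, trivial⟩ isClosed_univ.isLocallyClosed
    haveI : p.asIdeal.IsMaximal := (PrimeSpectrum.isClosed_singleton_iff_isMaximal p).1 hpc
    obtain ⟨θ, hθ⟩ := exists_algHom_of_isMaximal (k := k) (R := A) p.asIdeal
    let g : Pt (k₀ k) ⟶ H' := ptMap (CommAlgCat.ofHom θ : A ⟶ k₀ k) ≫ f
    have hgp : pt g = f.left p := (pt_comp _ _).trans (congrArg (fun r => f.left r)
      (PrimeSpectrum.ext ((asIdeal_point θ).trans hθ)))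
    have hsp : x ⤳ pt g := by
      rw [hgp, ← hf]
      exact ((PrimeSpectrum.le_iff_specializes ⊥ p).1 bot_le).map f.left.continuous
    have hx : x ∈ O g := hsp.mem_open (hO g) (hmem g)
    by_cases hg : In g
    · exact Or.inl (Set.mem_iUnion.2 ⟨⟨g, hg⟩, hx⟩)
    · exact Or.inr (Set.mem_iUnion.2 ⟨⟨g, hg⟩, hx⟩)
  have hdisj : Disjoint U U' := by
    rw [Set.disjoint_iff_inter_eq_empty]
    by_contra hne
    obtain ⟨x, hxU, hxU'⟩ := Set.nonempty_iff_ne_empty.2 hne
    obtain ⟨⟨g, hg⟩, hxg⟩ := Set.mem_iUnion.1 hxU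
    obtain ⟨⟨g', hg'⟩, hxg'⟩ := Set.mem_iUnion.1 hxU'
    obtain ⟨r, hr, hr'⟩ := exists_rational_mem haff hn ((hO g).inter (hO g')) ⟨x, hxg, hxg'⟩
    exact hg' ((hloc g' r hr').2 ((hloc g r hr).1 hg))
  have hU : IsOpen U := isOpen_iUnion fun g => hO g.1
  have hU' : IsOpen U' := isOpen_iUnion fun g => hO g.1
  have hUc : IsClosed U := by
    rw [← isOpen_compl_iff, (IsCompl.of_eq hdisj.eq_bot hcov).compl_eq]
    exact hU'
  have hgU : ∀ g, In g → pt g ∈ U := fun g hg => Set.mem_iUnion.2 ⟨⟨g, hg⟩, hmem g⟩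
  have hh : In h := (hIn hy hs).2 hqW
  have hUuniv : U = Set.univ := (isClopen_iff.1 ⟨hUc, hU⟩).resolve_left
    (fun h0 => Set.notMem_empty (pt h) (h0 ▸ hgU h hh))
  refine (hIn hy' hs').1 (by_contra fun hh' => ?_)
  exact Set.disjoint_left.1 hdisj (hUuniv ▸ Set.mem_univ (pt h'))
    (Set.mem_iUnion.2 ⟨⟨h', hh'⟩, hmem h'⟩)

/-- Fogarty: the Hilbert scheme of points of a connected scheme of positive dimension, in which
finite sets lie in affine opens, is connected. -/
theorem connectedSpace_of_isUniversal (haff : HasAff Y) (hY : 0 < topologicalKrullDim Y.left) :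
    ∀ (n : ℕ) (H : Over (Spec (CommRingCat.of k))) (Z : HilbD.Obj Y.hom n H),
      HilbD.IsUniversal Y.hom n H Z → ConnectedSpace H.left := by
  intro n
  induction n with
  | zero =>
    intro H Z hZ
    haveI := Groth.CurveDiv.isIso_of_isUniversal_zero Y.hom hZ
    haveI : ConnectedSpace ↥(Spec (CommRingCat.of k)) :=
      inferInstanceAs (ConnectedSpace (PrimeSpectrum k))
    let e := (Scheme.homeoOfIso (asIso H.hom)).symm
    exact e.surjective.connectedSpace e.continuous
  | succ n ih =>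
    intro H Z hZ
    obtain ⟨H', Z', hn⟩ := representable_of_points_in_affine (f := Y.hom) (d := n) fun _ x _ => by
      obtain ⟨U, hU, hx⟩ := haff (Set.range x) (Set.finite_range x)
      exact ⟨U, hU, fun i => hx ⟨i, rfl⟩⟩
    haveI := ih H' Z' hn
    exact connectedSpace_succ haff hY hn hZ

end Groth.HilbConn
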