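import Groth.Agent.HilbConn.Charts

/-!
# Points of the Hilbert scheme one step above a given point

`k` is algebraically closed. For a colength `n` ideal `J` in a chart and a rational point `χ`, the
colength `n + 1` ideals between `ker χ * J` and `J` give points in one connected set, and this
connected set does not change when `χ` moves along an irreducible closed subset.
-/

set_option autoImplicit false
set_option linter.style.haveILetI false

universe u

open CategoryTheory CategoryTheory.Limits AlgebraicGeometry TensorProduct Polynomial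
open Groth.GrassRep (Pt ptMap)
open Groth.HilbPts

noncomputable section

namespace Groth.HilbConn

variable {k : Type u} [Field k]

variable (k) in
/-- The base field as an algebra. -/
abbrev k₀ : CommAlgCat.{u} k := CommAlgCat.of k k

/-- The point of a rational point. -/
def pt {H : Over (Spec (CommRingCat.of k))} (g : Pt (k₀ k) ⟶ H) : H.left :=
  g.left (IsLocalRing.closedPoint k)

theorem pt_comp {H : Over (Spec (CommRingCat.of k))} {A : CommAlgCat.{u} k} (θ : A ⟶ k₀ k)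
    (g : Pt A ⟶ H) :
    pt (ptMap θ ≫ g) = g.left (PrimeSpectrum.comap θ.hom.toRingHom (IsLocalRing.closedPoint k)) :=
  rfl

/-- A connected family does not leave a clopen set. -/
theorem mem_iff_mem {H : Over (Spec (CommRingCat.of k))} {A : CommAlgCat.{u} k}
    [PreconnectedSpace (PrimeSpectrum A)] {W : Set H.left} (hW : IsClopen W) (g : Pt A ⟶ H)
    (p q : PrimeSpectrum A) : g.left p ∈ W ↔ g.left q ∈ W := by
  have h : IsClopen ((fun x : PrimeSpectrum A => g.left x) ⁻¹' W) := hW.preimage g.left.continuous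
  obtain h' | h' := isClopen_iff.1 h
  · have hp := Set.eq_empty_iff_forall_notMem.1 h' p
    have hq := Set.eq_empty_iff_forall_notMem.1 h' q
    exact iff_of_false hp hq
  · exact iff_of_true (h'.ge (Set.mem_univ p)) (h'.ge (Set.mem_univ q))

theorem finrank_of_degI {R : Type u} [CommRing R] [Algebra k R] {n : ℕ} {J : Ideal R}
    (hJ : DegI k n J) : Module.Finite k (R ⧸ J) ∧ Module.finrank k (R ⧸ J) = n := by
  haveI := hJ.1
  refine ⟨hJ.1, ?_⟩
  have h := hJ.2.2 (IsLocalRing.closedPoint k)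
  rwa [Module.rankAtStalk_eq_finrank_of_free] at h

/-- The image of `k₀ ⊗ R` in `A ⊗ R`. -/
abbrev up₀ (A : CommAlgCat.{u} k) (R : Type u) [CommRing R] [Algebra k R] :
    (k₀ k) ⊗[k] R →ₐ[k] A ⊗[k] R :=
  bc (Algebra.ofId k A)

theorem bc_up₀ {A C : CommAlgCat.{u} k} {R : Type u} [CommRing R] [Algebra k R] (θ : A →ₐ[k] C) :
    (bc θ).comp (up₀ A R) = up₀ C R :=
  AlgHom.ext fun x => by
    induction x using TensorProduct.induction_on with
    | zero => simp
    | tmul a r => simp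
    | add x y hx hy => simp only [map_add, hx, hy]

theorem up₀_self {R : Type u} [CommRing R] [Algebra k R] :
    up₀ (k₀ k) R = AlgHom.id k ((k₀ k) ⊗[k] R) :=
  AlgHom.ext fun x => by
    induction x using TensorProduct.induction_on with
    | zero => simp
    | tmul a r => simp
    | add x y hx hy => simp only [map_add, hx, hy]

theorem map_up₀_map {A C : CommAlgCat.{u} k} {R : Type u} [CommRing R] [Algebra k R]
    (θ : A →ₐ[k] C) (J : Ideal ((k₀ k) ⊗[k] R)) :
    (J.map (up₀ A R)).map (bc θ) = J.map (up₀ C R) := by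
  rw [← bc_up₀ θ]
  exact Ideal.map_map _ _

theorem degI_up₀ {A : CommAlgCat.{u} k} {R : Type u} [CommRing R] [Algebra k R] {n : ℕ}
    {J : Ideal ((k₀ k) ⊗[k] R)} (hJ : DegI (k₀ k) n J) : DegI A n (J.map (up₀ A R)) :=
  degI_map (CommAlgCat.ofHom (Algebra.ofId k A) : k₀ k ⟶ A) hJ

section Ev

variable {A : CommAlgCat.{u} k} {R : Type u} [CommRing R] [Algebra k R]

/-- Intersecting with the kernel of a point at which an ideal is the unit ideal. -/
theorem degI_inf_ker {n : ℕ} (χ : R →ₐ[k] A) {J : Ideal (A ⊗[k] R)} (hJ : DegI A n J)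
    {x : A ⊗[k] R} (hx : x ∈ J) (hu : IsUnit (ev χ x)) :
    DegI A (n + 1) (J ⊓ RingHom.ker (ev χ)) := by
  let φ : J →ₗ[A] A := (ev χ).toLinearMap.comp (J.subtype.restrictScalars A)
  have hφ : ∀ (y : A ⊗[k] R) (z : J), φ (y • z) = ev χ y * φ z := fun y z => map_mul (ev χ) y z.1
  have hs : Function.Surjective φ := fun a => by
    obtain ⟨u, hu⟩ := hu
    refine ⟨(a * ↑u⁻¹) • ⟨x, hx⟩, ?_⟩
    rw [map_smul, smul_eq_mul]
    show a * ↑u⁻¹ * ev χ x = a
    rw [← hu, Units.inv_mul_cancel_right]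
  have h := degI_ext hφ hJ hs
  have he : ext J (ev χ) φ hφ = J ⊓ RingHom.ker (ev χ) := by
    ext z
    exact ⟨fun ⟨h1, h2⟩ => ⟨h1, h2⟩, fun ⟨h1, h2⟩ => ⟨h1, h2⟩⟩
  rwa [← he]

theorem ker_mul_le_inf_ker (χ : R →ₐ[k] A) (J : Ideal (A ⊗[k] R)) :
    RingHom.ker (ev χ) * J ≤ J ⊓ RingHom.ker (ev χ) :=
  le_inf Ideal.mul_le_right Ideal.mul_le_left

end Ev

variable {Y : Over (Spec (CommRingCat.of k))} [IsSeparated Y.hom]
variable {n : ℕ} {H : Over (Spec (CommRingCat.of k))} {Z : HilbD.Obj Y.hom (n + 1) H}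
  (hH : HilbD.IsUniversal Y.hom (n + 1) H Z) (c : Chart Y)

/-- `J'` is `J` enlarged by the point `χ`. -/
structure IsExt (n : ℕ) (χ : c.R →ₐ[k] k₀ k) (J J' : Ideal ((k₀ k) ⊗[k] c.R)) : Prop where
  deg : DegI (k₀ k) (n + 1) J'
  le : J' ≤ J
  mul_le : RingHom.ker (ev χ) * J ≤ J'

theorem exists_functional {χ : c.R →ₐ[k] k₀ k} {J J' : Ideal ((k₀ k) ⊗[k] c.R)}
    (hJ : DegI (k₀ k) n J) (h : IsExt c n χ J J') :
    ∃ ψ : (k₀ k) ⊗[k] c.R →ₗ[k] k, (∀ x ∈ J, ψ x = 0 ↔ x ∈ J') ∧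
      ∀ x ∈ J, ∀ y, ψ (y * x) = ev χ y * ψ x := by
  obtain ⟨hf, hr⟩ := finrank_of_degI (k := k) (R := (k₀ k) ⊗[k] c.R) h.deg
  obtain ⟨hf', hr'⟩ := finrank_of_degI (k := k) (R := (k₀ k) ⊗[k] c.R) hJ
  let q : (((k₀ k) ⊗[k] c.R) ⧸ J') →ₗ[k] (((k₀ k) ⊗[k] c.R) ⧸ J) :=
    (Ideal.Quotient.factorₐ k h.le).toLinearMap
  have hq : Function.Surjective q := Ideal.Quotient.factor_surjective h.le
  have h1 : Module.finrank k (LinearMap.ker q) = 1 := by
    have := LinearMap.finrank_range_add_finrank_ker q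
    rw [LinearMap.range_eq_top.2 hq, finrank_top, hr, hr'] at this
    omega
  let e : LinearMap.ker q ≃ₗ[k] k := LinearEquiv.ofFinrankEq _ _ (h1.trans (Module.finrank_self k).symm)
  obtain ⟨L, hL⟩ := LinearMap.exists_extend e.toLinearMap
  refine ⟨L.comp (Ideal.Quotient.mkₐ k J').toLinearMap, fun x hx => ?_, fun x hx y => ?_⟩
  · have hm : Ideal.Quotient.mk J' x ∈ LinearMap.ker q :=
      LinearMap.mem_ker.2 (Ideal.Quotient.eq_zero_iff_mem.2 hx)
    have : L (Ideal.Quotient.mk J' x) = e ⟨_, hm⟩ := LinearMap.congr_fun hL ⟨_, hm⟩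
    show L (Ideal.Quotient.mk J' x) = 0 ↔ _
    rw [this, e.map_eq_zero_iff, ← Ideal.Quotient.eq_zero_iff_mem]
    exact Submodule.mk_eq_zero _ _
  · have hy : (y - algebraMap (k₀ k) _ (ev χ y)) * x ∈ J' :=
      h.mul_le (Ideal.mul_mem_mul (by simp [RingHom.mem_ker]) hx)
    show L (Ideal.Quotient.mk J' (y * x)) = ev χ y * L (Ideal.Quotient.mk J' x)
    rw [show Ideal.Quotient.mk J' (y * x) =
        Ideal.Quotient.mk J' (algebraMap (k₀ k) _ (ev χ y) * x) from
      Ideal.Quotient.eq.2 (by rw [← sub_mul]; exact hy)]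
    rw [← Algebra.smul_def,
      show Ideal.Quotient.mk J' ((ev χ y) • x) = (show k from ev χ y) • Ideal.Quotient.mk J' x from rfl,
      map_smul]
    rfl

include hH in
/-- Two enlargements by the same point are in one clopen set. -/
theorem mem_iff_of_isExt {W : Set H.left} (hW : IsClopen W) {χ : c.R →ₐ[k] k₀ k}
    {J J' J'' : Ideal ((k₀ k) ⊗[k] c.R)} (hJ : DegI (k₀ k) n J) (h' : IsExt c n χ J J')
    (h'' : IsExt c n χ J J'') :
    pt (cls hH c J' h'.deg) ∈ W ↔ pt (cls hH c J'' h''.deg) ∈ W := by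
  by_cases heq : J' = J''
  · rw [cls_congr hH c h'.deg h''.deg heq]
  obtain ⟨ψ', hψ', hs'⟩ := exists_functional c hJ h'
  obtain ⟨ψ'', hψ'', hs''⟩ := exists_functional c hJ h''
  obtain ⟨a, ha', ha''⟩ : ∃ a ∈ J', a ∉ J'' := by
    by_contra hh
    push Not at hh
    exact heq (eq_of_le hh h'.deg h''.deg)
  obtain ⟨b, hb'', hb'⟩ : ∃ b ∈ J'', b ∉ J' := by
    by_contra hh
    push Not at hh
    exact heq (eq_of_le hh h''.deg h'.deg).symm
  let A : CommAlgCat.{u} k := CommAlgCat.of k k[X]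
  let t : A := (X : k[X])
  let ψR' : c.R →ₗ[k] k := ψ'.comp (Algebra.TensorProduct.includeRight).toLinearMap
  let ψR'' : c.R →ₗ[k] k := ψ''.comp (Algebra.TensorProduct.includeRight).toLinearMap
  let F : c.R →ₗ[k] A :=
    (LinearMap.mulLeft k t).comp ((Algebra.linearMap k A).comp ψR'') +
      (LinearMap.mulLeft k (1 - t)).comp ((Algebra.linearMap k A).comp ψR')
  let Φ : A ⊗[k] c.R →ₗ[A] A := LinearMap.liftBaseChange A F
  have hψ : ∀ (ψ : (k₀ k) ⊗[k] c.R →ₗ[k] k) (a : k) (r : c.R),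
      ψ ((show k₀ k from a) ⊗ₜ[k] r) = a * ψ (1 ⊗ₜ[k] r) := fun ψ a r => by
    rw [← smul_eq_mul a, ← map_smul, TensorProduct.smul_tmul']
    congr 2
    exact (mul_one a).symm
  have hι : ∀ p, Φ (up₀ A c.R p) =
      t * algebraMap k A (ψ'' p) + (1 - t) * algebraMap k A (ψ' p) := by
    intro p
    induction p using TensorProduct.induction_on with
    | zero => simp
    | tmul a r =>
      simp only [Φ, F, ψR', ψR'', bc, Algebra.TensorProduct.map_tmul, AlgHom.id_apply,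
        LinearMap.liftBaseChange_tmul, LinearMap.add_apply, LinearMap.comp_apply,
        LinearMap.mulLeft_apply, Algebra.linearMap_apply, AlgHom.toLinearMap_apply,
        Algebra.TensorProduct.includeRight_apply]
      rw [hψ ψ'' a r, hψ ψ' a r, map_mul, map_mul, Algebra.ofId_apply, smul_eq_mul]
      ring
    | add x y hx hy => rw [map_add, map_add, hx, hy, map_add, map_add, map_add, map_add]; ring
  let χA : c.R →ₐ[k] A := (Algebra.ofId k A).comp χ
  let JA := J.map (up₀ A c.R)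
  have hgen : ∀ g ∈ (up₀ A c.R) '' (J : Set _), ∀ y, Φ (y * g) = ev χA y * Φ g := by
    rintro _ ⟨g, hg, rfl⟩ y
    induction y using TensorProduct.induction_on with
    | zero => simp
    | tmul a r =>
      have e1 : (a ⊗ₜ[k] r : A ⊗[k] c.R) * up₀ A c.R g =
          a • up₀ A c.R ((1 : k₀ k) ⊗ₜ[k] r * g) := by
        rw [map_mul, ← smul_mul_assoc]
        congr 1
        simp [TensorProduct.smul_tmul']
      rw [e1, map_smul, hι, hι, hs'' g hg, hs' g hg, map_mul, map_mul]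
      simp only [χA, ev_tmul, AlgHom.comp_apply, Algebra.ofId_apply, one_mul, smul_eq_mul]
      ring
    | add x y hx hy => rw [add_mul, map_add, hx, hy, map_add, add_mul]
  let φ : JA →ₗ[A] A := Φ.comp (JA.subtype.restrictScalars A)
  have hφ : ∀ (y : A ⊗[k] c.R) (z : JA), φ (y • z) = ev χA y * φ z :=
    fun y z => semilinear_of_span (ev χA) Φ _ hgen z.2 y
  have haJ : a ∈ J := h'.le ha'
  have hbJ : b ∈ J := h''.le hb''
  have hψa : ψ'' a ≠ 0 := fun h => ha'' ((hψ'' a haJ).1 h)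
  have hψb : ψ' b ≠ 0 := fun h => hb' ((hψ' b hbJ).1 h)
  have hsurj : Function.Surjective φ := by
    intro s
    refine ⟨s • (algebraMap k A (ψ'' a)⁻¹ • ⟨_, Ideal.mem_map_of_mem (up₀ A c.R) haJ⟩ +
      algebraMap k A (ψ' b)⁻¹ • ⟨_, Ideal.mem_map_of_mem (up₀ A c.R) hbJ⟩), ?_⟩
    rw [map_smul, map_add, map_smul, map_smul]
    show s • (algebraMap k A (ψ'' a)⁻¹ • Φ (up₀ A c.R a) +
      algebraMap k A (ψ' b)⁻¹ • Φ (up₀ A c.R b)) = s
    rw [hι, hι, (hψ' a haJ).2 ha', (hψ'' b hbJ).2 hb'']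
    simp only [smul_eq_mul, map_zero, mul_zero, add_zero, zero_add]
    rw [mul_left_comm _ t, mul_left_comm _ (1 - t), ← map_mul, ← map_mul, inv_mul_cancel₀ hψa,
      inv_mul_cancel₀ hψb, map_one]
    ring
  have hE : DegI A (n + 1) (ext JA (ev χA) φ hφ) := degI_ext hφ (degI_up₀ hJ) hsurj
  haveI : IsDomain A := inferInstanceAs (IsDomain k[X])
  have hsp : ∀ (s : k) (x : A ⊗[k] c.R), ∀ ψ : (k₀ k) ⊗[k] c.R →ₗ[k] k,
      (∀ p, ψ p = s * ψ'' p + (1 - s) * ψ' p) →
      ψ (bc (C := k₀ k) (aeval (R := k) s : A →ₐ[k] k₀ k) x) = aeval (R := k) s (Φ x : k[X]) := by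
    intro s x ψ hψs
    induction x using TensorProduct.induction_on with
    | zero => simp
    | tmul f r =>
      simp only [bc, Algebra.TensorProduct.map_tmul, AlgHom.id_apply]
      rw [hψ ψ, hψs]
      simp only [Φ, F, ψR', ψR'', LinearMap.liftBaseChange_tmul, LinearMap.add_apply,
        LinearMap.comp_apply, LinearMap.mulLeft_apply, Algebra.linearMap_apply,
        AlgHom.toLinearMap_apply, Algebra.TensorProduct.includeRight_apply, smul_eq_mul]
      have key : ∀ (f : k[X]) (α β : k), f.eval s * (s * α + (1 - s) * β) =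
          (f * (X * C α + (1 - X) * C β)).eval s := fun f α β => by
        simp only [eval_mul, eval_add, eval_sub, eval_X, eval_C, eval_one]
      exact key f _ _
    | add x y hx hy => rw [map_add, map_add, hx, hy, map_add, ← map_add]
  have hspec : ∀ (s : k) (J₀ : Ideal ((k₀ k) ⊗[k] c.R)) (hJ₀ : DegI (k₀ k) (n + 1) J₀)
      (ψ : (k₀ k) ⊗[k] c.R →ₗ[k] k), (∀ p, ψ p = s * ψ'' p + (1 - s) * ψ' p) →
      (∀ x ∈ J, ψ x = 0 → x ∈ J₀) →
      pt (cls hH c J₀ hJ₀) =
        pt (ptMap (CommAlgCat.ofHom (aeval (R := k) s : A →ₐ[k] k₀ k)) ≫ cls hH c _ hE) := by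
    intro s J₀ hJ₀ ψ hψs hmem
    rw [cls_map]
    refine congrArg pt (cls_congr hH c _ _ ?_).symm
    refine eq_of_le ?_ (degI_map _ hE) hJ₀
    rw [Ideal.map_le_iff_le_comap]
    rintro x ⟨hx, hx0⟩
    have hxJ : bc (C := k₀ k) (aeval (R := k) s : A →ₐ[k] k₀ k) x ∈ J := by
      have h := Ideal.mem_map_of_mem (bc (C := k₀ k) (aeval (R := k) s : A →ₐ[k] k₀ k)) hx
      have hJA : JA.map (bc (C := k₀ k) (aeval (R := k) s : A →ₐ[k] k₀ k)) = J := by
        show (J.map _).map _ = J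
        rw [map_up₀_map (A := A) (C := k₀ k), up₀_self]
        exact Ideal.map_id J
      exact hJA ▸ h
    refine hmem _ hxJ ?_
    refine (hsp s x ψ hψs).trans ?_
    exact (congrArg (aeval (R := k) s) hx0).trans (map_zero _)
  rw [hspec 0 J' h'.deg ψ' (fun p => by ring) (fun x hx => (hψ' x hx).1),
    hspec 1 J'' h''.deg ψ'' (fun p => by ring) (fun x hx => (hψ'' x hx).1), pt_comp, pt_comp]
  exact mem_iff_mem hW _ _ _

theorem exists_isExt_of_not_le {χ : c.R →ₐ[k] k₀ k} {J : Ideal ((k₀ k) ⊗[k] c.R)}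
    (hJ : DegI (k₀ k) n J) (hne : ¬ J ≤ RingHom.ker (ev χ) * J) :
    ∃ J', IsExt c n χ J J' := by
  obtain ⟨x, hx, hx'⟩ := SetLike.not_le_iff_exists.1 hne
  set m := RingHom.ker (ev χ) * J with hm
  obtain ⟨L, hL⟩ : ∃ L : (((k₀ k) ⊗[k] c.R) ⧸ m) →ₗ[k] k, L (Ideal.Quotient.mk m x) ≠ 0 := by
    by_contra hh
    push Not at hh
    exact hx' (Ideal.Quotient.eq_zero_iff_mem.1 ((Module.forall_dual_apply_eq_zero_iff k _).1 hh))
  let ψ : (k₀ k) ⊗[k] c.R →ₗ[k] k := L.comp (Ideal.Quotient.mkₐ k m).toLinearMap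
  let φ : J →ₗ[k₀ k] k₀ k :=
    { toFun := fun z => ψ z.1
      map_add' := fun z w => map_add ψ z.1 w.1
      map_smul' := fun a z => map_smul ψ a z.1 }
  have hφ : ∀ (y : (k₀ k) ⊗[k] c.R) (z : J), φ (y • z) = ev χ y * φ z := by
    intro y z
    have hy : Ideal.Quotient.mk m (y * z.1) =
        Ideal.Quotient.mk m (algebraMap (k₀ k) _ (ev χ y) * z.1) :=
      Ideal.Quotient.eq.2 (by rw [← sub_mul]; exact Ideal.mul_mem_mul (by simp [RingHom.mem_ker]) z.2)
    show L (Ideal.Quotient.mk m (y * z.1)) = ev χ y * L (Ideal.Quotient.mk m z.1)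
    rw [hy, ← Algebra.smul_def,
      show Ideal.Quotient.mk m ((ev χ y) • z.1) = (show k from ev χ y) • Ideal.Quotient.mk m z.1 from rfl,
      map_smul]
    rfl
  have hs : Function.Surjective φ := fun a =>
    ⟨((show k from a) * (ψ x)⁻¹ : k₀ k) • ⟨x, hx⟩, by
      rw [map_smul, smul_eq_mul]
      show (show k from a) * (ψ x)⁻¹ * ψ x = a
      exact inv_mul_cancel_right₀ hL _⟩
  exact ⟨_, degI_ext hφ hJ hs, ext_le hφ, ker_mul_le hφ⟩

end Groth.HilbConn
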