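import Groth.Agent.HilbConn.Curve

/-!
# Charts around finite sets and descent of points of the Hilbert scheme

Every point of the Hilbert scheme of points lies in the same clopen sets as some rational point:
the family over its residue field comes from a family over a finitely generated domain.
-/

set_option autoImplicit false
set_option linter.style.haveILetI false
set_option linter.unusedSectionVars false
set_option synthInstance.maxHeartbeats 200000

universe u

open CategoryTheory CategoryTheory.Limits AlgebraicGeometry TensorProduct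
open Groth.GrassRep (Pt ptMap)
open Groth.HilbPts

noncomputable section

namespace Groth.HilbConn

variable {k : Type u} [Field k]
variable {Y : Over (Spec (CommRingCat.of k))}

/-- Any finite set of points lies in an affine open. -/
def HasAff (Y : Over (Spec (CommRingCat.of k))) : Prop :=
  ∀ F : Set Y.left, F.Finite → ∃ U : Y.left.Opens, IsAffineOpen U ∧ F ⊆ U

theorem exists_chart_le (haff : HasAff Y) {F : Set Y.left} (hF : F.Finite) (O : Y.left.Opens)
    (hFO : F ⊆ O) : ∃ c : Chart Y, F ⊆ Set.range c.j ∧ Set.range c.j ⊆ O := by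
  obtain ⟨U, hU, hFU⟩ := haff F hF
  obtain ⟨V, hV, hVO, hFV⟩ := exists_affine_le_of_finite hU O hF hFU hFO
  obtain ⟨c, hc⟩ := exists_chart hV
  exact ⟨c, hc ▸ hFV, hc ▸ hVO⟩

/-- A smaller chart maps to a larger one. -/
theorem exists_refine (c₁ c₃ : Chart Y) (h : Set.range c₃.j ⊆ Set.range c₁.j) :
    ∃ ρ : c₁.R ⟶ c₃.R, Spec.map (CommRingCat.ofHom ρ.hom.toRingHom) ≫ c₁.j = c₃.j := by
  let l := IsOpenImmersion.lift c₁.j c₃.j h
  have hl : l ≫ c₁.j = c₃.j := IsOpenImmersion.lift_fac _ _ _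
  have hw : l ≫ f₀ (R := k) c₁.R = f₀ (R := k) c₃.R := by
    have h1 := c₁.w
    have h3 := c₃.w
    rw [Category.comp_id] at h1 h3
    rw [← h1, ← Category.assoc, hl, h3]
  have hc : (Spec.preimage l).hom.comp (algebraMap k c₁.R) = algebraMap k c₃.R := by
    have h := congrArg Spec.preimage hw
    rw [Spec.preimage_comp, f₀, f₀, Spec.preimage_map, Spec.preimage_map] at h
    exact congrArg CommRingCat.Hom.hom h
  refine ⟨CommAlgCat.ofHom { (Spec.preimage l).hom with commutes' := fun r => RingHom.congr_fun hc r },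
    ?_⟩
  rw [← hl]
  refine congrArg (fun q => q ≫ c₁.j) ?_
  exact Spec.map_preimage l

/-- The point of `Y` of a rational point of a chart. -/
def ptY (c : Chart Y) (χ : c.R →ₐ[k] k₀ k) : Y.left :=
  c.j (PrimeSpectrum.comap χ.toRingHom (IsLocalRing.closedPoint k))

theorem ptY_mem (c : Chart Y) (χ : c.R →ₐ[k] k₀ k) : ptY c χ ∈ Set.range c.j := ⟨_, rfl⟩

theorem asIdeal_point {R : Type u} [CommRing R] [Algebra k R] (χ : R →ₐ[k] k₀ k) :
    (PrimeSpectrum.comap χ.toRingHom (IsLocalRing.closedPoint k)).asIdeal = RingHom.ker χ := by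
  show (IsLocalRing.maximalIdeal k).comap χ.toRingHom = _
  rw [IsLocalRing.maximalIdeal_eq_bot]
  rfl

theorem algHom_ext_of_ker {R : Type u} [CommRing R] [Algebra k R] {χ χ' : R →ₐ[k] k₀ k}
    (h : RingHom.ker χ = RingHom.ker χ') : χ = χ' := AlgHom.ext fun r => by
  have hm : r - algebraMap k R (show k from χ r) ∈ RingHom.ker χ := by
    rw [RingHom.mem_ker, map_sub, AlgHom.commutes]
    exact sub_self _
  rw [h, RingHom.mem_ker, map_sub, AlgHom.commutes, sub_eq_zero] at hm
  exact hm.symm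

theorem eq_of_ptY_eq (c : Chart Y) {χ χ' : c.R →ₐ[k] k₀ k} (h : ptY c χ = ptY c χ') : χ = χ' := by
  refine algHom_ext_of_ker ?_
  rw [← asIdeal_point χ, ← asIdeal_point χ']
  exact congrArg PrimeSpectrum.asIdeal (c.j.isOpenEmbedding.injective h)

theorem ptY_refine (c₁ c₃ : Chart Y) (ρ : c₁.R ⟶ c₃.R)
    (hρ : Spec.map (CommRingCat.ofHom ρ.hom.toRingHom) ≫ c₁.j = c₃.j) (χ : c₃.R →ₐ[k] k₀ k) :
    ptY c₁ (χ.comp ρ.hom) = ptY c₃ χ := by
  show _ = c₃.j _
  rw [← hρ]
  rfl

/-- Maximal ideals of finitely generated algebras are rational. -/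
theorem exists_algHom_of_isMaximal [IsAlgClosed k] {R : Type u} [CommRing R] [Algebra k R]
    [Algebra.FiniteType k R] (M : Ideal R) [M.IsMaximal] :
    ∃ θ : R →ₐ[k] k₀ k, RingHom.ker θ = M := by
  letI : Field (R ⧸ M) := Ideal.Quotient.field M
  haveI : Algebra.FiniteType k (R ⧸ M) :=
    Algebra.FiniteType.of_surjective (Ideal.Quotient.mkₐ k M) Ideal.Quotient.mk_surjective
  haveI : Module.Finite k (R ⧸ M) := finite_of_finite_type_of_isJacobsonRing k _
  have hbij : Function.Bijective (algebraMap k (R ⧸ M)) :=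
    IsAlgClosed.algebraMap_bijective_of_isIntegral
  let e : k ≃ₐ[k] R ⧸ M := AlgEquiv.ofBijective (Algebra.ofId k (R ⧸ M)) hbij
  refine ⟨e.symm.toAlgHom.comp (Ideal.Quotient.mkₐ k M), ?_⟩
  ext r
  show e.symm (Ideal.Quotient.mk M r) = 0 ↔ _
  rw [map_eq_zero_iff _ e.symm.injective, Ideal.Quotient.eq_zero_iff_mem]

theorem exists_ptY_eq [IsAlgClosed k] [LocallyOfFiniteType Y.hom] (c : Chart Y) {y : Y.left}
    (hy : IsClosed ({y} : Set Y.left)) (hyc : y ∈ Set.range c.j) :
    ∃ χ : c.R →ₐ[k] k₀ k, ptY c χ = y := by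
  obtain ⟨p, rfl⟩ := hyc
  have hp : IsClosed ({p} : Set (PrimeSpectrum c.R)) := by
    have h := hy.preimage c.j.continuous
    rwa [show c.j ⁻¹' {c.j p} = {p} from
      Set.ext fun q => c.j.isOpenEmbedding.injective.eq_iff] at h
  haveI : p.asIdeal.IsMaximal := (PrimeSpectrum.isClosed_singleton_iff_isMaximal p).1 hp
  obtain ⟨θ, hθ⟩ := exists_algHom_of_isMaximal (k := k) (R := c.R) p.asIdeal
  exact ⟨θ, congrArg c.j (PrimeSpectrum.ext ((asIdeal_point θ).trans hθ))⟩

theorem isClosed_ptY [LocallyOfFiniteType Y.hom] (c : Chart Y) (χ : c.R →ₐ[k] k₀ k) :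
    IsClosed ({ptY c χ} : Set Y.left) := by
  haveI : JacobsonSpace Y.left := LocallyOfFiniteType.jacobsonSpace Y.hom
  have hm : (PrimeSpectrum.comap χ.toRingHom (IsLocalRing.closedPoint k)) ∈
      closedPoints (PrimeSpectrum c.R) := by
    rw [mem_closedPoints_iff, PrimeSpectrum.isClosed_singleton_iff_isMaximal, asIdeal_point]
    exact RingHom.ker_isMaximal_of_surjective _ fun a => ⟨algebraMap k c.R a, χ.commutes a⟩
  have h := (Set.ext_iff.1 (c.j.isOpenEmbedding.preimage_closedPoints) _).2 hm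
  exact h

variable [IsSeparated Y.hom]
variable {n : ℕ} {H : Over (Spec (CommRingCat.of k))}

/-- The points of `Y` in the fibre of the family. -/
def supp (Z : HilbD.Obj Y.hom n H) (t : H.left) : Set Y.left :=
  (Z.1.subschemeι ≫ pullback.fst Y.hom H.hom) '' ((Z.1.subschemeι ≫ PicF.XTproj Y.hom H) ⁻¹' {t})

theorem finite_supp (Z : HilbD.Obj Y.hom n H) (t : H.left) : (supp Z t).Finite :=
  (finite_fibre _ Z.2 t).1.image _

theorem mem_locus (c : Chart Y) {Z : HilbD.Obj Y.hom n H} {t : H.left} :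
    t ∈ locus c.j (𝟙 (Spec (CommRingCat.of k))) Z ↔ supp Z t ⊆ Set.range c.j := by
  rw [mem_locus_iff]
  refine ⟨fun h => ?_, fun h => ⟨⟨_, rfl⟩, fun z hz => h ⟨z, hz, rfl⟩⟩⟩
  rintro _ ⟨z, hz, rfl⟩
  exact h.2 z hz

theorem range_subset_locus_of_subsingleton (c : Chart Y) {Z : HilbD.Obj Y.hom n H}
    {A : CommAlgCat.{u} k} [Subsingleton (PrimeSpectrum A)] (g : Pt A ⟶ H) (p : PrimeSpectrum A)
    (h : supp Z (g.left p) ⊆ Set.range c.j) :
    Set.range g.left ⊆ locus c.j (𝟙 (Spec (CommRingCat.of k))) Z := by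
  rintro _ ⟨q, rfl⟩
  rw [show q = p from Subsingleton.elim (α := PrimeSpectrum A) q p]
  exact (mem_locus c).2 h

theorem supp_cls_subset {Z : HilbD.Obj Y.hom n H} (hH : HilbD.IsUniversal Y.hom n H Z)
    (c : Chart Y) {A : CommAlgCat.{u} k} (J : Ideal (A ⊗[k] c.R)) (hJ : DegI A n J)
    (p : PrimeSpectrum A) : supp Z ((cls hH c J hJ).left p) ⊆ Set.range c.j :=
  (mem_locus c).1 (range_cls_subset hH c J hJ ⟨p, rfl⟩)

/-- Data in a smaller chart give data in a larger one. -/
theorem exists_cls_refine {Z : HilbD.Obj Y.hom n H} (hH : HilbD.IsUniversal Y.hom n H Z)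
    (c₁ c₃ : Chart Y) (h : Set.range c₃.j ⊆ Set.range c₁.j) {A : CommAlgCat.{u} k}
    (J₃ : Ideal (A ⊗[k] c₃.R)) (h₃ : DegI A n J₃) :
    ∃ (J₁ : Ideal (A ⊗[k] c₁.R)) (h₁ : DegI A n J₁), cls hH c₁ J₁ h₁ = cls hH c₃ J₃ h₃ := by
  refine exists_cls hH c₁ _ ?_
  rintro _ ⟨p, rfl⟩
  exact (mem_locus c₁).2 ((supp_cls_subset hH c₃ J₃ h₃ p).trans h)

section Descent

variable {K : Type u} [Field K] [Algebra k K] {R : Type u} [CommRing R] [Algebra k R]

theorem degI_of_finrank {P : Type u} [CommRing P] [Algebra K P] {d : ℕ} {J : Ideal P}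
    [Module.Finite K (P ⧸ J)] (h : Module.finrank K (P ⧸ J) = d) : DegI K d J :=
  ⟨inferInstance, inferInstance, fun p => by
    rw [Module.rankAtStalk_eq_finrank_of_free]; exact h⟩

set_option maxHeartbeats 800000 in
/-- A point over a field comes from a family over a finitely generated subalgebra. -/
theorem exists_descend [Algebra.FiniteType k R] {d : ℕ} {J : Ideal (K ⊗[k] R)} (hJ : DegI K d J) :
    ∃ A₀ : Subalgebra k K, Algebra.FiniteType k A₀ ∧ ∃ J₀ : Ideal (A₀ ⊗[k] R),
      DegI A₀ d J₀ ∧ J₀.map (bc A₀.val) ≤ J := by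
  classical
  haveI := hJ.1
  have hd : Module.finrank K ((K ⊗[k] R) ⧸ J) = d := by
    have h := hJ.2.2 ⟨⊥, Ideal.isPrime_bot⟩
    rwa [Module.rankAtStalk_eq_finrank_of_free] at h
  let π : R →ₐ[k] (K ⊗[k] R) ⧸ J :=
    (Ideal.Quotient.mkₐ k J).comp Algebra.TensorProduct.includeRight
  have hspan : Submodule.span K (Set.range π) = ⊤ := by
    refine eq_top_iff.2 fun q _ => ?_
    obtain ⟨x, rfl⟩ := Ideal.Quotient.mk_surjective q
    induction x using TensorProduct.induction_on with
    | zero => rw [map_zero]; exact zero_mem _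
    | tmul a r =>
      have h : Ideal.Quotient.mk J (a ⊗ₜ[k] r) = a • π r := by
        show _ = a • Ideal.Quotient.mk J ((1 : K) ⊗ₜ[k] r)
        rw [← Ideal.Quotient.mkₐ_eq_mk K, ← map_smul, TensorProduct.smul_tmul', smul_eq_mul, mul_one]
      rw [h]
      exact Submodule.smul_mem _ _ (Submodule.subset_span ⟨r, rfl⟩)
    | add x y hx hy => rw [map_add]; exact add_mem (hx trivial) (hy trivial)
  let b := Module.Basis.ofSpan hspan.ge
  haveI : Finite _ := Module.Finite.finite_basis b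
  letI := Fintype.ofFinite
  obtain ⟨gens, hgens⟩ := (inferInstance : Algebra.FiniteType k R).out
  choose r hr using fun i => (Module.Basis.ofSpan_subset hspan.ge ⟨i, rfl⟩ : b i ∈ Set.range π)
  let T : Set K := Set.range (fun i => b.repr 1 i) ∪
    ⋃ g ∈ gens, Set.range fun p : _ × _ => b.repr (π g * b p.1) p.2
  have hT : T.Finite := (Set.finite_range _).union
    (Set.Finite.biUnion gens.finite_toSet fun g _ => Set.finite_range _)
  let A₀ : Subalgebra k K := Algebra.adjoin k T
  haveI hft : Algebra.FiniteType k A₀ :=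
    (Subalgebra.fg_iff_finiteType A₀).1 (Subalgebra.fg_def.2 ⟨T, hT, rfl⟩)
  let L : Submodule A₀ ((K ⊗[k] R) ⧸ J) := Submodule.span A₀ (Set.range b)
  have hsum : ∀ q, (∀ i, b.repr q i ∈ A₀) → q ∈ L := fun q hq => by
    rw [← b.sum_repr q]
    exact Submodule.sum_mem _ fun i _ =>
      Submodule.smul_mem _ (⟨_, hq i⟩ : A₀) (Submodule.subset_span ⟨i, rfl⟩)
  have hmul : ∀ g ∈ gens, ∀ q ∈ L, π g * q ∈ L := fun g hg q hq => by
    induction hq using Submodule.span_induction with
    | mem x hx =>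
      obtain ⟨i, rfl⟩ := hx
      exact hsum _ fun j => Algebra.subset_adjoin
        (Or.inr (Set.mem_biUnion hg ⟨(i, j), rfl⟩))
    | zero => rw [mul_zero]; exact zero_mem _
    | add x y _ _ hx hy => rw [mul_add]; exact add_mem hx hy
    | smul a x _ hx => rw [mul_smul_comm]; exact Submodule.smul_mem _ _ hx
  have hone : (1 : (K ⊗[k] R) ⧸ J) ∈ L := hsum _ fun i => Algebra.subset_adjoin (Or.inl ⟨i, rfl⟩)
  have hR : ∀ (x : R), ∀ q ∈ L, π x * q ∈ L := by
    intro x
    have hx : x ∈ Algebra.adjoin k (gens : Set R) := hgens ▸ trivial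
    induction hx using Algebra.adjoin_induction with
    | mem g hg => exact hmul g hg
    | algebraMap a =>
      intro q hq
      rw [AlgHom.commutes, ← Algebra.smul_def]
      exact L.smul_of_tower_mem a hq
    | add x y _ _ hx hy => intro q hq; rw [map_add, add_mul]; exact add_mem (hx q hq) (hy q hq)
    | mul x y _ _ hx hy => intro q hq; rw [map_mul, mul_assoc]; exact hx _ (hy q hq)
  let ψ : A₀ ⊗[k] R →ₐ[A₀] (K ⊗[k] R) ⧸ J :=
    Algebra.TensorProduct.lift (Algebra.ofId A₀ _) π fun _ _ => Commute.all _ _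
  have hψ : ∀ a x, ψ (a ⊗ₜ[k] x) = a • π x := fun a x => by
    rw [Algebra.smul_def a (π x)]
    simp [ψ]
  have hrange : LinearMap.range ψ.toLinearMap = L := by
    apply le_antisymm
    · rintro _ ⟨x, rfl⟩
      induction x using TensorProduct.induction_on with
      | zero => rw [map_zero]; exact zero_mem _
      | tmul a x =>
        show ψ (a ⊗ₜ[k] x) ∈ L
        rw [hψ, ← mul_one (π x)]
        exact Submodule.smul_mem _ _ (hR x 1 hone)
      | add x y hx hy => rw [map_add]; exact add_mem hx hy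
    · refine Submodule.span_le.2 ?_
      rintro _ ⟨i, rfl⟩
      refine ⟨1 ⊗ₜ[k] r i, ?_⟩
      show ψ (1 ⊗ₜ[k] r i) = b i
      rw [hψ, one_smul, hr]
  have hli : LinearIndependent A₀ b :=
    b.linearIndependent.restrict_scalars (fun a a' h => by
      simpa [Subalgebra.smul_def] using h)
  let bL : Module.Basis _ A₀ L := Module.Basis.span hli
  let e : ((A₀ ⊗[k] R) ⧸ RingHom.ker ψ) ≃ₗ[A₀] L :=
    ((Submodule.Quotient.restrictScalarsEquiv A₀ (RingHom.ker ψ)).symm.trans
      (Submodule.quotEquivOfEq _ (LinearMap.ker ψ.toLinearMap) (by ext; rfl))).trans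
      (ψ.toLinearMap.quotKerEquivRange.trans (LinearEquiv.ofEq _ _ hrange))
  haveI : Module.Free A₀ L := Module.Free.of_basis bL
  haveI : Module.Finite A₀ L := Module.Finite.of_basis bL
  refine ⟨A₀, hft, RingHom.ker ψ, ⟨Module.Finite.equiv e.symm,
    Module.Projective.of_equiv e.symm, fun p => ?_⟩, ?_⟩
  · haveI : Nontrivial A₀ := nontrivial_of_ne 0 1 fun h => zero_ne_one (congrArg Subtype.val h)
    rw [Module.rankAtStalk_eq_of_equiv e, Module.rankAtStalk_eq_finrank_of_free,
      Pi.natCast_apply, Module.finrank_eq_card_basis bL, ← hd, Module.finrank_eq_card_basis b]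
    rfl
  · rw [Ideal.map_le_iff_le_comap]
    intro x hx
    have key : ∀ z, Ideal.Quotient.mk J (bc A₀.val z) = ψ z := fun z => by
      induction z using TensorProduct.induction_on with
      | zero => simp
      | tmul a z =>
        rw [hψ]
        show Ideal.Quotient.mk J ((a : K) ⊗ₜ[k] z) = (a : K) • Ideal.Quotient.mk J ((1 : K) ⊗ₜ[k] z)
        rw [← Ideal.Quotient.mkₐ_eq_mk K, ← map_smul, TensorProduct.smul_tmul', smul_eq_mul, mul_one]
      | add u v hu hv => simp only [map_add, hu, hv]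
    show bc A₀.val x ∈ J
    exact Ideal.Quotient.eq_zero_iff_mem.1 ((key x).trans hx)

end Descent

variable [IsAlgClosed k] [LocallyOfFiniteType Y.hom]

/-- Every point of the Hilbert scheme is the generic point of a family over a finitely generated
domain. -/
theorem exists_family (haff : HasAff Y) {Z : HilbD.Obj Y.hom n H}
    (hH : HilbD.IsUniversal Y.hom n H Z) (x : H.left) :
    ∃ (A : CommAlgCat.{u} k) (_ : IsDomain A) (_ : Algebra.FiniteType k A) (g : Pt A ⟶ H),
      g.left (⊥ : PrimeSpectrum A) = x := by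
  letI : Algebra k (H.left.residueField x) :=
    (Spec.preimage (H.left.fromSpecResidueField x ≫ H.hom)).hom.toAlgebra
  let K : CommAlgCat.{u} k := CommAlgCat.of k (H.left.residueField x)
  letI : Field K := inferInstanceAs (Field (H.left.residueField x))
  let g : Pt K ⟶ H := Over.homMk (H.left.fromSpecResidueField x) (Spec.map_preimage _).symm
  have hx : ∀ p : PrimeSpectrum K, g.left p = x := fun p => by
    have h : g.left p ∈ Set.range (H.left.fromSpecResidueField x) := ⟨p, rfl⟩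
    rwa [Scheme.range_fromSpecResidueField] at h
  obtain ⟨c, hc, -⟩ := exists_chart_le haff (finite_supp Z x) ⊤ fun _ _ => trivial
  obtain ⟨J, hJ, hcls⟩ := exists_cls hH c g
    (range_subset_locus_of_subsingleton c g ⊥ (by rw [hx]; exact hc))
  obtain ⟨A₀, hft, J₀, hJ₀, hle⟩ := exists_descend (K := K) (R := c.R) hJ
  let A : CommAlgCat.{u} k := CommAlgCat.of k A₀
  have hgen : ptMap (CommAlgCat.ofHom A₀.val : A ⟶ K) ≫ cls hH c J₀ hJ₀ = g := by
    rw [cls_map, ← hcls]
    exact cls_congr hH c _ _ (eq_of_le hle (degI_map _ hJ₀) hJ)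
  refine ⟨A, inferInstanceAs (IsDomain A₀), hft, cls hH c J₀ hJ₀, ?_⟩
  have h := congrArg (fun m : Pt K ⟶ H => m.left (⊥ : PrimeSpectrum K)) hgen
  refine Eq.trans ?_ (h.trans (hx ⊥))
  refine congrArg _ (PrimeSpectrum.ext ?_)
  exact ((RingHom.injective_iff_ker_eq_bot (A₀.val : A₀ →ₐ[k] K).toRingHom).1
    Subtype.val_injective).symm

/-- Every point lies in the clopen sets of some rational point in its closure. -/
theorem exists_rational_mem (haff : HasAff Y) {Z : HilbD.Obj Y.hom n H}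
    (hH : HilbD.IsUniversal Y.hom n H Z) {O : Set H.left} (hO : IsOpen O) (hne : O.Nonempty) :
    ∃ q : Pt (k₀ k) ⟶ H, pt q ∈ O := by
  obtain ⟨x, hx⟩ := hne
  obtain ⟨A, _, _, g, hg⟩ := exists_family haff hH x
  haveI : IsJacobsonRing A := isJacobsonRing_of_finiteType (A := k)
  haveI : JacobsonSpace (PrimeSpectrum A) :=
    PrimeSpectrum.isJacobsonRing_iff_jacobsonSpace.mp inferInstance
  obtain ⟨p, hp, hpc⟩ := @nonempty_inter_closedPoints _ _
    (PrimeSpectrum.isJacobsonRing_iff_jacobsonSpace.mp ‹IsJacobsonRing A›)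
    ((fun p : PrimeSpectrum A => g.left p) ⁻¹' O)
    ⟨⊥, by show g.left (⊥ : PrimeSpectrum A) ∈ O; rwa [hg]⟩
    (hO.preimage g.left.continuous).isLocallyClosed
  haveI : p.asIdeal.IsMaximal := (PrimeSpectrum.isClosed_singleton_iff_isMaximal p).1 hpc
  obtain ⟨θ, hθ⟩ := exists_algHom_of_isMaximal (k := k) (R := A) p.asIdeal
  refine ⟨ptMap (CommAlgCat.ofHom θ : A ⟶ k₀ k) ≫ g, ?_⟩
  rw [pt_comp]
  exact Set.mem_of_eq_of_mem (congrArg (fun q => g.left q)
    (show PrimeSpectrum.comap θ.toRingHom (IsLocalRing.closedPoint k) = p from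
      PrimeSpectrum.ext ((asIdeal_point θ).trans hθ))) hp

end Groth.HilbConn
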