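import Groth.Agent.HilbConn.Components

/-!
# Adding a point to a rational point of the Hilbert scheme
-/

set_option autoImplicit false
set_option linter.style.haveILetI false
set_option linter.unusedSectionVars false
set_option synthInstance.maxHeartbeats 200000

universe u

open CategoryTheory CategoryTheory.Limits AlgebraicGeometry TensorProduct
open Groth.GrassRep (Pt ptMap)
open Groth.HilbPts

noncomputable section

namespace Groth.HilbConn

variable {k : Type u} [Field k] [IsAlgClosed k]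
variable {Y : Over (Spec (CommRingCat.of k))} [IsSeparated Y.hom] [LocallyOfFiniteType Y.hom]
  [QuasiCompact Y.hom] [ConnectedSpace Y.left]
variable {n : ℕ} {H' : Over (Spec (CommRingCat.of k))} {Z' : HilbD.Obj Y.hom n H'}
  (hn : HilbD.IsUniversal Y.hom n H' Z')
variable {H : Over (Spec (CommRingCat.of k))} {Z : HilbD.Obj Y.hom (n + 1) H}
  (hH : HilbD.IsUniversal Y.hom (n + 1) H Z)

/-- `q` is `h` with the point `y` added. -/
def Step (h : Pt (k₀ k) ⟶ H') (y : Y.left) (q : Pt (k₀ k) ⟶ H) : Prop :=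
  ∃ (c : Chart Y) (J : Ideal ((k₀ k) ⊗[k] c.R)) (hJ : DegI (k₀ k) n J) (χ : c.R →ₐ[k] k₀ k)
    (J' : Ideal ((k₀ k) ⊗[k] c.R)) (h' : IsExt c n χ J J'),
    cls hn c J hJ = h ∧ ptY c χ = y ∧ cls hH c J' h'.deg = q

theorem subsingleton_spec_k₀ : Subsingleton (PrimeSpectrum (k₀ k)) :=
  inferInstanceAs (Subsingleton (PrimeSpectrum k))

theorem exists_cls_of_supp {m : ℕ} {G : Over (Spec (CommRingCat.of k))} {W : HilbD.Obj Y.hom m G}
    (hG : HilbD.IsUniversal Y.hom m G W) (c : Chart Y) (g : Pt (k₀ k) ⟶ G)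
    (h : supp W (pt g) ⊆ Set.range c.j) :
    ∃ (J : Ideal ((k₀ k) ⊗[k] c.R)) (hJ : DegI (k₀ k) m J), cls hG c J hJ = g := by
  haveI := subsingleton_spec_k₀ (k := k)
  exact exists_cls hG c g
    (range_subset_locus_of_subsingleton c g (IsLocalRing.closedPoint k) h)

theorem supp_cls_pt_subset {m : ℕ} {G : Over (Spec (CommRingCat.of k))} {W : HilbD.Obj Y.hom m G}
    (hG : HilbD.IsUniversal Y.hom m G W) (c : Chart Y) (J : Ideal ((k₀ k) ⊗[k] c.R))
    (hJ : DegI (k₀ k) m J) : supp W (pt (cls hG c J hJ)) ⊆ Set.range c.j :=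
  supp_cls_subset hG c J hJ _

/-- An ideal of finite colength can be enlarged at every point. -/
theorem exists_isExt (hY : 0 < topologicalKrullDim Y.left) (c : Chart Y)
    {J : Ideal ((k₀ k) ⊗[k] c.R)} (hJ : DegI (k₀ k) n J) (χ : c.R →ₐ[k] k₀ k) :
    ∃ J', IsExt c n χ J J' := by
  refine exists_isExt_of_not_le c hJ fun hle => ?_
  haveI : IsNoetherianRing c.R := Algebra.FiniteType.isNoetherianRing k _
  haveI : IsNoetherianRing ((k₀ k) ⊗[k] c.R) :=
    isNoetherianRing_of_ringEquiv c.R (Algebra.TensorProduct.lid k c.R).toRingEquiv.symm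
  obtain ⟨r, hr, hr0⟩ := Submodule.exists_sub_one_mem_and_smul_eq_zero_of_fg_of_le_smul
    (RingHom.ker (ev χ)) J (IsNoetherian.noetherian J) (by rwa [smul_eq_mul])
  obtain ⟨𝔭, h𝔭, hmax, hle'⟩ := exists_prime hY c χ
  obtain ⟨x, hx, hx'⟩ := SetLike.not_le_iff_exists.1 (not_le_comap_low hJ 𝔭 hmax)
  haveI : (𝔭.comap (low k c.R)).IsPrime := Ideal.comap_isPrime _ _
  have hrx : r * x ∈ 𝔭.comap (low k c.R) := by
    rw [show r * x = 0 from hr0 x hx]
    exact zero_mem _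
  obtain hrq | hxq := Ideal.IsPrime.mem_or_mem (I := 𝔭.comap (low k c.R)) inferInstance hrx
  · have h1 : ev χ r = 0 := (ev_eq_low χ r).trans (hle' hrq)
    rw [RingHom.mem_ker, map_sub, h1, map_one, zero_sub, neg_eq_zero] at hr
    exact one_ne_zero hr
  · exact hx' hxq

include hn hH in
/-- A point can be added at every closed point. -/
theorem exists_step (haff : HasAff Y) (hY : 0 < topologicalKrullDim Y.left)
    (h : Pt (k₀ k) ⟶ H') {y : Y.left} (hy : IsClosed ({y} : Set Y.left)) :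
    ∃ q, Step hn hH h y q := by
  obtain ⟨c, hc, -⟩ := exists_chart_le haff ((finite_supp Z' (pt h)).union (Set.finite_singleton y))
    ⊤ fun _ _ => trivial
  obtain ⟨J, hJ, hh⟩ := exists_cls_of_supp hn c h (Set.subset_union_left.trans hc)
  obtain ⟨χ, hχ⟩ := exists_ptY_eq c hy (hc (Or.inr rfl))
  obtain ⟨J', h'⟩ := exists_isExt hY c hJ χ
  exact ⟨_, c, J, hJ, χ, J', h', hh, hχ, rfl⟩

include hn hH in
/-- Data in a smaller chart give data in a larger one. -/
theorem exists_isExt_refine (c₁ c₃ : Chart Y) (hsub : Set.range c₃.j ⊆ Set.range c₁.j)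
    {J₁ : Ideal ((k₀ k) ⊗[k] c₁.R)} (h₁ : DegI (k₀ k) n J₁) {χ₁ : c₁.R →ₐ[k] k₀ k}
    {J₃ J₃' : Ideal ((k₀ k) ⊗[k] c₃.R)} (h₃ : DegI (k₀ k) n J₃) {χ₃ : c₃.R →ₐ[k] k₀ k}
    (h' : IsExt c₃ n χ₃ J₃ J₃') (hJ : cls hn c₁ J₁ h₁ = cls hn c₃ J₃ h₃)
    (hy : ptY c₁ χ₁ = ptY c₃ χ₃) :
    ∃ (J₁' : Ideal ((k₀ k) ⊗[k] c₁.R)) (h₁' : IsExt c₁ n χ₁ J₁ J₁'),
      cls hH c₁ J₁' h₁'.deg = cls hH c₃ J₃' h'.deg := by
  obtain ⟨ρ, hρ⟩ := exists_refine c₁ c₃ hsub
  set r := Algebra.TensorProduct.map (AlgHom.id k (k₀ k)) ρ.hom with hr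
  have e₁ : J₁ = J₃.comap r := eq_comap_of_cls_eq hn c₁ c₃ ρ hρ J₁ h₁ J₃ h₃ hJ
  obtain ⟨J₁', hd, he⟩ := exists_cls_refine hH c₁ c₃ hsub J₃' h'.deg
  have e₁' : J₁' = J₃'.comap r := eq_comap_of_cls_eq hH c₁ c₃ ρ hρ J₁' hd J₃' h'.deg he
  have hχ : χ₁ = χ₃.comp ρ.hom := eq_of_ptY_eq c₁ (hy.trans (ptY_refine c₁ c₃ ρ hρ χ₃).symm)
  have hev : ∀ x, ev χ₁ x = ev χ₃ (r x) := fun x => by
    induction x using TensorProduct.induction_on with
    | zero => simp
    | tmul a s => simp [r, hχ]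
    | add u v hu hv => simp only [map_add, hu, hv]
  refine ⟨J₁', ⟨hd, ?_, ?_⟩, he⟩
  · rw [e₁, e₁']
    exact Ideal.comap_mono h'.le
  · rw [Ideal.mul_le]
    intro a ha b hb
    rw [e₁', Ideal.mem_comap, map_mul]
    refine h'.mul_le (Ideal.mul_mem_mul ?_ ?_)
    · rw [RingHom.mem_ker, ← hev]
      exact ha
    · rw [e₁] at hb
      exact hb

include hn hH in
/-- The clopen sets containing an enlargement depend only on the point and the point added. -/
theorem step_iff (haff : HasAff Y) (hY : 0 < topologicalKrullDim Y.left) {W : Set H.left}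
    (hW : IsClopen W) {h : Pt (k₀ k) ⟶ H'} {y : Y.left} {q q' : Pt (k₀ k) ⟶ H}
    (hq : Step hn hH h y q) (hq' : Step hn hH h y q') : pt q ∈ W ↔ pt q' ∈ W := by
  obtain ⟨c₁, J₁, h₁, χ₁, J₁', e₁, rfl, rfl, rfl⟩ := hq
  obtain ⟨c₂, J₂, h₂, χ₂, J₂', e₂, hh, hy, rfl⟩ := hq'
  have hy₁ : IsClosed ({ptY c₁ χ₁} : Set Y.left) := isClosed_ptY c₁ χ₁
  obtain ⟨c₃, hc, hcle⟩ := exists_chart_le haff
    ((finite_supp Z' (pt (cls hn c₁ J₁ h₁))).union (Set.finite_singleton (ptY c₁ χ₁)))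
    (c₁.j.opensRange ⊓ c₂.j.opensRange) (by
      rintro z (hz | rfl)
      · exact ⟨supp_cls_pt_subset hn c₁ J₁ h₁ hz, supp_cls_pt_subset hn c₂ J₂ h₂ (hh.symm ▸ hz)⟩
      · exact ⟨ptY_mem c₁ χ₁, hy ▸ ptY_mem c₂ χ₂⟩)
  obtain ⟨J₃, h₃, hh₃⟩ := exists_cls_of_supp hn c₃ (cls hn c₁ J₁ h₁)
    (Set.subset_union_left.trans hc)
  obtain ⟨χ₃, hχ₃⟩ := exists_ptY_eq c₃ hy₁ (hc (Or.inr rfl))
  obtain ⟨J₃', e₃⟩ := exists_isExt hY c₃ h₃ χ₃
  obtain ⟨K₁, f₁, g₁⟩ := exists_isExt_refine hn hH c₁ c₃ (fun z hz => (hcle hz).1) h₁ (χ₁ := χ₁)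
    h₃ e₃ hh₃.symm hχ₃.symm
  obtain ⟨K₂, f₂, g₂⟩ := exists_isExt_refine hn hH c₂ c₃ (fun z hz => (hcle hz).2) h₂ (χ₁ := χ₂)
    h₃ e₃ (hh.trans hh₃.symm) (hy.trans hχ₃.symm)
  rw [mem_iff_of_isExt hH c₁ hW h₁ e₁ f₁, mem_iff_of_isExt hH c₂ hW h₂ e₂ f₂, g₁, g₂]

include hn hH in
/-- The clopen sets containing an enlargement do not depend on the point added. -/
theorem step_iff' (haff : HasAff Y) (hY : 0 < topologicalKrullDim Y.left) {W : Set H.left}
    (hW : IsClopen W) {h : Pt (k₀ k) ⟶ H'} {y y' : Y.left} (hy : IsClosed ({y} : Set Y.left))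
    (hy' : IsClosed ({y'} : Set Y.left)) {q q' : Pt (k₀ k) ⟶ H}
    (hq : Step hn hH h y q) (hq' : Step hn hH h y' q') : pt q ∈ W ↔ pt q' ∈ W := by
  let P : Y.left → Prop := fun z => ∀ p, Step hn hH h z p → pt p ∈ W
  have hP : ∀ {z p}, Step hn hH h z p → (P z ↔ pt p ∈ W) := fun {z p} hp =>
    ⟨fun H₁ => H₁ p hp, fun H₁ p' hp' => (step_iff hn hH haff hY hW hp hp').1 H₁⟩
  rw [← hP hq, ← hP hq']
  refine forall_iff_of_component P (fun Zc hZ z hz z' hz' hzc hzc' => ?_) hy hy'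
  obtain ⟨c, hc, -⟩ := exists_chart_le haff
    ((finite_supp Z' (pt h)).union ((Set.finite_singleton z).insert z')) ⊤ fun _ _ => trivial
  obtain ⟨J, hJ, hh⟩ := exists_cls_of_supp hn c h (Set.subset_union_left.trans hc)
  obtain ⟨χ, rfl⟩ := exists_ptY_eq c hzc (hc (Or.inr (Or.inr rfl)))
  obtain ⟨χ', rfl⟩ := exists_ptY_eq c hzc' (hc (Or.inr (Or.inl rfl)))
  obtain ⟨J', e⟩ := exists_isExt hY c hJ χ
  obtain ⟨J'', e'⟩ := exists_isExt hY c hJ χ'
  rw [hP (⟨c, J, hJ, χ, J', e, hh, rfl, rfl⟩ : Step hn hH h _ _),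
    hP (⟨c, J, hJ, χ', J'', e', hh, rfl, rfl⟩ : Step hn hH h _ _)]
  obtain ⟨𝔭, h𝔭, hmax, hle⟩ := exists_prime_of_component hY hZ c ⟨_, hz, ptY_mem c χ⟩
  haveI := h𝔭
  exact mem_iff_of_prime hH c 𝔭 hW hJ (not_le_comap_low hJ 𝔭 hmax) (hle χ hz) (hle χ' hz') e e'

omit [IsSeparated Y.hom] [LocallyOfFiniteType Y.hom] [QuasiCompact Y.hom] [ConnectedSpace Y.left] in
/-- An ideal of colength `n + 1` is an ideal of colength `n` enlarged by a point. -/
theorem exists_colength_step {P : Type u} [CommRing P] [Algebra k P] [Algebra.FiniteType k P]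
    {m : ℕ} {J' : Ideal P} [Module.Finite k (P ⧸ J')] (hrank : Module.finrank k (P ⧸ J') = m + 1) :
    ∃ (θ : P →ₐ[k] k₀ k) (J : Ideal P) (_ : Module.Finite k (P ⧸ J)), J' ≤ J ∧
      RingHom.ker θ * J ≤ J' ∧ Module.finrank k (P ⧸ J) = m := by
  haveI : IsArtinianRing (P ⧸ J') := IsArtinianRing.of_finite k _
  haveI : Nontrivial (P ⧸ J') := Module.nontrivial_of_finrank_eq_succ hrank
  haveI : IsAtomic (Ideal (P ⧸ J')) := isAtomic_of_orderBot_wellFounded_lt wellFounded_lt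
  obtain h0 | ⟨I, hI, -⟩ := eq_bot_or_exists_atom_le (⊤ : Ideal (P ⧸ J'))
  · exact absurd h0 top_ne_bot
  obtain ⟨f, hfI, hf0⟩ := Submodule.exists_mem_ne_zero_of_ne_bot hI.1
  have hspan : ∀ g : (P ⧸ J'), g ∈ I → g ≠ 0 → Ideal.span {g} = I := fun g hg hg0 =>
    (hI.le_iff.1 ((Ideal.span_singleton_le_iff_mem I).2 hg)).resolve_left
      (fun h => hg0 (Ideal.span_singleton_eq_bot.1 h))
  let M : Ideal (P) :=
    { carrier := {x | Ideal.Quotient.mk J' x * f = 0}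
      zero_mem' := (congrArg (· * f) (map_zero _)).trans (zero_mul f)
      add_mem' := fun {a b} ha hb => by
        simp only [Set.mem_ofPred_eq, map_add, add_mul] at ha hb ⊢
        rw [ha, hb, add_zero]
      smul_mem' := fun a x hx => by
        simp only [Set.mem_ofPred_eq, smul_eq_mul, map_mul, mul_assoc] at hx ⊢
        rw [hx, mul_zero] }
  haveI hM : M.IsMaximal := Ideal.isMaximal_iff.2 ⟨fun h => hf0 (((congrArg (· * f) (map_one (Ideal.Quotient.mk J'))).trans (one_mul f)).symm.trans h),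
    fun K x hMK hxM hxK => by
      have hxf : Ideal.Quotient.mk J' x * f ≠ 0 := hxM
      have hmem : f ∈ Ideal.span {Ideal.Quotient.mk J' x * f} := by
        rw [hspan _ (I.mul_mem_left _ hfI) hxf]
        exact hfI
      obtain ⟨a, ha⟩ := Ideal.mem_span_singleton'.1 hmem
      obtain ⟨a, rfl⟩ := Ideal.Quotient.mk_surjective a
      have h1 : (1 - a * x) ∈ M := by
        show Ideal.Quotient.mk J' (1 - a * x) * f = 0
        rw [map_sub, map_one, map_mul, sub_mul, one_mul, mul_assoc, ha, sub_self]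
      have := add_mem (hMK h1) (K.mul_mem_left a hxK)
      rwa [sub_add_cancel] at this⟩
  obtain ⟨θ, hθ⟩ := exists_algHom_of_isMaximal (k := k) (R := P) M
  let J : Ideal (P) := I.comap (Ideal.Quotient.mk J')
  have hle : J' ≤ J := fun x hx => by
    show Ideal.Quotient.mk J' x ∈ I
    rw [Ideal.Quotient.eq_zero_iff_mem.2 hx]
    exact zero_mem _
  have hmul : RingHom.ker θ * J ≤ J' := by
    rw [Ideal.mul_le]
    intro a ha b hb
    have hb' : Ideal.Quotient.mk J' b ∈ Ideal.span {f} := by rw [hspan f hfI hf0]; exact hb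
    obtain ⟨t, ht⟩ := Ideal.mem_span_singleton'.1 hb'
    have ha' : a ∈ M := hθ ▸ ha
    rw [← Ideal.Quotient.eq_zero_iff_mem, map_mul, ← ht, mul_left_comm,
      (show Ideal.Quotient.mk J' a * f = 0 from ha'), mul_zero]
  let qm : ((P) ⧸ J') →ₗ[k] ((P) ⧸ J) :=
    (Ideal.Quotient.factorₐ k hle).toLinearMap
  have hker : LinearMap.ker qm = Submodule.span k {f} := by
    apply le_antisymm
    · intro z hz
      obtain ⟨z, rfl⟩ := Ideal.Quotient.mk_surjective z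
      have hz' : Ideal.Quotient.mk J' z ∈ Ideal.span {f} := by
        rw [hspan f hfI hf0]
        exact (Ideal.Quotient.eq_zero_iff_mem.1 (LinearMap.mem_ker.1 hz) : z ∈ J)
      obtain ⟨t, ht⟩ := Ideal.mem_span_singleton'.1 hz'
      obtain ⟨t, rfl⟩ := Ideal.Quotient.mk_surjective t
      refine Submodule.mem_span_singleton.2 ⟨(show k from θ t), ?_⟩
      rw [← ht, Algebra.smul_def]
      have hm : algebraMap k _ (show k from θ t) - t ∈ M := by
        rw [← hθ, RingHom.mem_ker, map_sub, AlgHom.commutes]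
        exact sub_self _
      have hm' : Ideal.Quotient.mk J' (algebraMap k _ (show k from θ t) - t) * f = 0 := hm
      rw [map_sub, sub_mul, sub_eq_zero] at hm'
      exact hm'
    · rw [Submodule.span_singleton_le_iff_mem, LinearMap.mem_ker]
      obtain ⟨f', rfl⟩ := Ideal.Quotient.mk_surjective f
      exact Ideal.Quotient.eq_zero_iff_mem.2 hfI
  haveI : Module.Finite k ((P) ⧸ J) :=
    Module.Finite.of_surjective qm (Ideal.Quotient.factor_surjective hle)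
  refine ⟨θ, J, inferInstance, hle, hmul, ?_⟩
  have := LinearMap.finrank_range_add_finrank_ker qm
  rw [LinearMap.range_eq_top.2 (Ideal.Quotient.factor_surjective hle), finrank_top, hker,
    finrank_span_singleton hf0] at this
  omega

include hn hH in
/-- Every rational point is some point with one point added. -/
theorem exists_step_eq (haff : HasAff Y) (q : Pt (k₀ k) ⟶ H) :
    ∃ h y, IsClosed ({y} : Set Y.left) ∧ Step hn hH h y q := by
  obtain ⟨c, hc, -⟩ := exists_chart_le haff (finite_supp Z (pt q)) ⊤ fun _ _ => trivial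
  obtain ⟨J', hJ', rfl⟩ := exists_cls_of_supp hH c q hc
  obtain ⟨hf, hrank⟩ := finrank_of_degI (k := k) (R := (k₀ k) ⊗[k] c.R) hJ'
  haveI := hf
  haveI : Algebra.FiniteType k ((k₀ k) ⊗[k] c.R) :=
    inferInstanceAs (Algebra.FiniteType k (k ⊗[k] c.R))
  obtain ⟨θ, J, hfJ, hle, hmul, hr⟩ := exists_colength_step hrank
  let χ : c.R →ₐ[k] k₀ k := θ.comp Algebra.TensorProduct.includeRight
  have hev : ∀ x, ev χ x = θ x := fun x => by
    induction x using TensorProduct.induction_on with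
    | zero => simp
    | tmul a r =>
      rw [ev_tmul, show (a ⊗ₜ[k] r : (k₀ k) ⊗[k] c.R) =
        (show k from a) • ((1 : k₀ k) ⊗ₜ[k] r) by
          rw [TensorProduct.smul_tmul']; congr 1; exact (mul_one _).symm, map_smul]
      rfl
    | add u v hu hv => simp only [map_add, hu, hv]
  have hJ : DegI (k₀ k) n J := by
    haveI := hfJ
    exact degI_of_finrank (K := k) (P := (k₀ k) ⊗[k] c.R) hr
  refine ⟨_, _, isClosed_ptY c χ, c, J, hJ, χ, J', ⟨hJ', hle, ?_⟩, rfl, rfl, rfl⟩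
  rwa [show RingHom.ker (ev χ) = RingHom.ker θ from by ext x; simp only [RingHom.mem_ker, hev]]

include hn hH in
set_option maxHeartbeats 800000 in
/-- Adding a point is locally constant. -/
theorem exists_nbhd (haff : HasAff Y) (hY : 0 < topologicalKrullDim Y.left) {W : Set H.left}
    (hW : IsClopen W) (h₀ : Pt (k₀ k) ⟶ H') :
    ∃ O : Set H'.left, IsOpen O ∧ pt h₀ ∈ O ∧ ∀ h : Pt (k₀ k) ⟶ H', pt h ∈ O →
      ∀ y q y' q', IsClosed ({y} : Set Y.left) → IsClosed ({y'} : Set Y.left) →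
        Step hn hH h₀ y q → Step hn hH h y' q' → (pt q ∈ W ↔ pt q' ∈ W) := by
  classical
  obtain ⟨y₀⟩ : Nonempty Y.left := inferInstance
  haveI : JacobsonSpace Y.left := LocallyOfFiniteType.jacobsonSpace Y.hom
  obtain ⟨y₁, -, hy₁⟩ := nonempty_inter_closedPoints (Z := (Set.univ : Set Y.left))
    ⟨y₀, trivial⟩ isClosed_univ.isLocallyClosed
  obtain ⟨c, hc, -⟩ := exists_chart_le haff
    ((finite_supp Z' (pt h₀)).union (Set.finite_singleton y₁)) ⊤ fun _ _ => trivial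
  obtain ⟨J₀, hJ₀, hh₀⟩ := exists_cls_of_supp hn c h₀ (Set.subset_union_left.trans hc)
  obtain ⟨χ₁, hχ₁⟩ := exists_ptY_eq c hy₁ (hc (Or.inr rfl))
  obtain ⟨𝔭, h𝔭, hmax, -⟩ := exists_prime hY c χ₁
  haveI := h𝔭
  obtain ⟨x, hx, hx'⟩ := SetLike.not_le_iff_exists.1 (not_le_comap_low hJ₀ 𝔭 hmax)
  -- a rational point outside the support
  haveI : IsJacobsonRing c.R := isJacobsonRing_of_finiteType (A := k)
  obtain ⟨M, hM, h𝔭M, hxM⟩ : ∃ M : Ideal c.R, M.IsMaximal ∧ 𝔭 ≤ M ∧ low k c.R x ∉ M := by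
    by_contra hh
    push Not at hh
    have hj : low k c.R x ∈ 𝔭.jacobson := Ideal.mem_sInf.2 fun I hI => hh I hI.2 hI.1
    rw [isJacobsonRing_iff.1 ‹IsJacobsonRing c.R› 𝔭 h𝔭.isRadical] at hj
    exact hx' hj
  haveI := hM
  obtain ⟨χ, hχ⟩ := exists_algHom_of_isMaximal (k := k) (R := c.R) M
  -- an affine neighbourhood
  obtain ⟨_, ⟨V, hV, rfl⟩, h₀V, hVle⟩ := H'.left.isBasis_affineOpens.exists_subset_of_mem_open
    ((mem_locus c).2 (Set.subset_union_left.trans hc) :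
      pt h₀ ∈ locus c.j (𝟙 (Spec (CommRingCat.of k))) Z') (TopologicalSpace.Opens.isOpen _)
  letI : Algebra k Γ(H'.left, V) := (Spec.preimage (hV.fromSpec ≫ H'.hom)).hom.toAlgebra
  let A : CommAlgCat.{u} k := CommAlgCat.of k Γ(H'.left, V)
  let g : Pt A ⟶ H' := Over.homMk hV.fromSpec (Spec.map_preimage _).symm
  have hrange : Set.range g.left = (V : Set H'.left) := hV.range_fromSpec
  obtain ⟨JA, hJA, hgA⟩ := exists_cls hn c g (hrange.trans_subset hVle)
  have hlift : ∀ h : Pt (k₀ k) ⟶ H', pt h ∈ (V : Set H'.left) →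
      ∃ θ : A ⟶ k₀ k, ptMap θ ≫ g = h := by
    intro h hh
    haveI : IsOpenImmersion g.left := inferInstanceAs (IsOpenImmersion hV.fromSpec)
    haveI := subsingleton_spec_k₀ (k := k)
    have hsub : Set.range h.left ⊆ Set.range g.left := by
      rintro _ ⟨p, rfl⟩
      rw [hrange, show p = IsLocalRing.closedPoint k from
        Subsingleton.elim (α := PrimeSpectrum (k₀ k)) _ _]
      exact hh
    let u : Pt (k₀ k) ⟶ Pt A := Over.homMk (IsOpenImmersion.lift g.left h.left hsub) (by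
      rw [← Over.w g, ← Category.assoc, IsOpenImmersion.lift_fac, Over.w h])
    obtain ⟨θ, hθ⟩ := Groth.GrassRep.exists_ptMap u
    refine ⟨θ, ?_⟩
    rw [← hθ]
    ext
    exact IsOpenImmersion.lift_fac _ _ _
  obtain ⟨θ₀, hθ₀⟩ := hlift h₀ h₀V
  have hJ₀A : JA.map (bc (C := k₀ k) θ₀.hom) = J₀ := by
    obtain ⟨ρ, hρ⟩ := exists_refine c c subset_rfl
    have e1 := eq_comap_of_cls_eq hn c c ρ hρ (JA.map (bc (C := k₀ k) θ₀.hom))
      (degI_map θ₀ hJA) J₀ hJ₀ (by rw [← cls_map hn c θ₀ JA hJA, hgA, hθ₀, hh₀])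
    have e2 := eq_comap_of_cls_eq hn c c ρ hρ J₀ hJ₀ J₀ hJ₀ rfl
    exact e1.trans e2.symm
  let χA : c.R →ₐ[k] A := (Algebra.ofId k A).comp χ
  have hχA : ∀ θ : A →ₐ[k] k₀ k, θ.comp χA = χ := fun θ => AlgHom.ext fun r => θ.commutes _
  obtain ⟨xA, hxA, hxA'⟩ : ∃ xA ∈ JA, θ₀.hom (ev χA xA) ≠ 0 := by
    by_contra hh
    push Not at hh
    have hle : J₀ ≤ RingHom.ker (ev χ) := by
      rw [← hJ₀A, Ideal.map_le_iff_le_comap]
      intro z hz
      rw [Ideal.mem_comap, RingHom.mem_ker, ← hχA θ₀.hom, ev_bc]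
      exact hh z hz
    refine hxM (hχ ▸ ?_)
    rw [RingHom.mem_ker, ← ev_eq_low]
    exact hle hx
  let a : A := ev χA xA
  let A' : CommAlgCat.{u} k := CommAlgCat.of k (Localization.Away a)
  let ι : A ⟶ A' := CommAlgCat.ofHom (IsScalarTower.toAlgHom k A (Localization.Away a))
  let χ' : c.R →ₐ[k] A' := ι.hom.comp χA
  let J' : Ideal (A' ⊗[k] c.R) := JA.map (bc ι.hom)
  have hu : IsUnit (ev χ' (bc ι.hom xA)) := by
    rw [ev_bc]
    exact IsLocalization.Away.algebraMap_isUnit a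
  have hE : DegI A' (n + 1) (J' ⊓ RingHom.ker (ev χ')) :=
    degI_inf_ker χ' (degI_map ι hJA) (Ideal.mem_map_of_mem _ hxA) hu
  let g' : Pt A' ⟶ H := cls hH c _ hE
  have hlift' : ∀ θ : A ⟶ k₀ k, θ.hom a ≠ 0 → ∃ θ' : A' ⟶ k₀ k, ι ≫ θ' = θ := by
    intro θ hθ
    have hua : IsUnit (θ.hom a) := isUnit_iff_ne_zero.2 hθ
    exact ⟨CommAlgCat.ofHom (IsLocalization.Away.liftAlgHom a (f := θ.hom) hua),
      CommAlgCat.hom_ext (AlgHom.ext fun z => IsLocalization.Away.lift_eq a hua z)⟩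
  have hstep : ∀ (θ : A ⟶ k₀ k) (θ' : A' ⟶ k₀ k), ι ≫ θ' = θ →
      Step hn hH (ptMap θ ≫ g) (ptY c χ) (ptMap θ' ≫ g') := by
    intro θ θ' he
    have hχ' : θ'.hom.comp χ' = χ := AlgHom.ext fun r => (θ'.hom.comp ι.hom).commutes _
    have hmap : J'.map (bc θ'.hom) = JA.map (bc θ.hom) := by
      rw [← he]
      refine (Ideal.map_map (bc ι.hom).toRingHom (bc θ'.hom).toRingHom).trans ?_
      refine congrArg (fun f => Ideal.map f JA) (?_ : _ = (bc (ι ≫ θ').hom).toRingHom)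
      refine RingHom.ext fun z => ?_
      induction z using TensorProduct.induction_on with
      | zero => simp
      | tmul b r => simp
      | add u v hu hv => simp only [map_add, hu, hv]
    refine ⟨c, JA.map (bc θ.hom), degI_map θ hJA, χ, _, ⟨degI_map θ' hE, ?_, ?_⟩, ?_, rfl,
      (cls_map hH c θ' _ hE).symm⟩
    · exact hmap ▸ Ideal.map_mono inf_le_left
    · have h := ker_mul_map_le χ' θ'.hom (ker_mul_le_inf_ker χ' J')
      rw [hχ', hmap] at h
      exact h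
    · rw [← cls_map hn c θ JA hJA, hgA]
  obtain ⟨θ₀', hθ₀'⟩ := hlift' θ₀ hxA'
  let S : Set (PrimeSpectrum A') :=
    {p | g'.left p ∈ W ↔ pt (ptMap θ₀' ≫ g') ∈ W}
  have hS : IsOpen S := by
    by_cases hmem : pt (ptMap θ₀' ≫ g') ∈ W
    · have : S = (fun p : PrimeSpectrum A' => g'.left p) ⁻¹' W := by ext p; simp [S, hmem]
      rw [this]; exact hW.2.preimage g'.left.continuous
    · have : S = (fun p : PrimeSpectrum A' => g'.left p) ⁻¹' Wᶜ := by ext p; simp [S, hmem]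
      rw [this]; exact hW.1.isOpen_compl.preimage g'.left.continuous
  let em : PrimeSpectrum A' → H'.left := fun p => g.left (PrimeSpectrum.comap ι.hom.toRingHom p)
  have hem : Topology.IsOpenEmbedding em :=
    hV.fromSpec.isOpenEmbedding.comp (PrimeSpectrum.localization_away_isOpenEmbedding
      (Localization.Away a) a)
  refine ⟨em '' S, hem.isOpenMap S hS, ?_, fun h hh y q y' q' hy hy' hq hq' => ?_⟩
  · refine ⟨PrimeSpectrum.comap θ₀'.hom.toRingHom (IsLocalRing.closedPoint k), ?_, ?_⟩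
    · show g'.left _ ∈ W ↔ _
      rw [pt_comp]
    · rw [← hθ₀, pt_comp, ← hθ₀']
      rfl
  obtain ⟨p, hp, hpe⟩ := hh
  have hhV : pt h ∈ (V : Set H'.left) := hrange ▸ ⟨_, hpe⟩
  obtain ⟨θ, hθ⟩ := hlift h hhV
  have hp' : PrimeSpectrum.comap ι.hom.toRingHom p =
      PrimeSpectrum.comap θ.hom.toRingHom (IsLocalRing.closedPoint k) := by
    refine hV.fromSpec.isOpenEmbedding.injective ?_
    show em p = _
    rw [hpe, ← hθ, pt_comp]
    rfl
  have hθa : θ.hom a ≠ 0 := by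
    intro h0
    have h1 : a ∈ (PrimeSpectrum.comap θ.hom.toRingHom (IsLocalRing.closedPoint k)).asIdeal := by
      rw [asIdeal_point, RingHom.mem_ker]
      exact h0
    rw [← hp'] at h1
    exact p.2.ne_top (Ideal.eq_top_of_isUnit_mem _ h1 (IsLocalization.Away.algebraMap_isUnit a))
  obtain ⟨θ', hθ'⟩ := hlift' θ hθa
  have hpθ : p = PrimeSpectrum.comap θ'.hom.toRingHom (IsLocalRing.closedPoint k) := by
    refine hem.injective ?_
    show em p = g.left _
    rw [hpe, ← hθ, pt_comp, ← hθ']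
    rfl
  have h1 := hstep θ₀ θ₀' hθ₀'
  have h2 := hstep θ θ' hθ'
  rw [hθ₀] at h1
  rw [hθ] at h2
  have hyc : IsClosed ({ptY c χ} : Set Y.left) := isClosed_ptY c χ
  rw [step_iff' hn hH haff hY hW hy hyc hq h1, step_iff' hn hH haff hY hW hy' hyc hq' h2,
    pt_comp θ' g', ← hpθ]
  exact hp.symm

end Groth.HilbConn
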